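import Groth.Agent.DRing.DBasic
import Groth.Agent.DRing.Homology
import Groth.Agent.DRing.KoszulLift.Fibre
import Mathlib.Algebra.Homology.DerivedCategory.Linear
import Mathlib.Algebra.Category.ModuleCat.Basic
import Mathlib.RingTheory.LocalRing.Module
import Mathlib.RingTheory.RegularLocalRing.Defs

/-!
# Morphisms to and from the residue field in the derived category of a local ring
-/

set_option autoImplicit false

universe u

attribute [local instance] HasDerivedCategory.standard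

open CategoryTheory CategoryTheory.Limits DerivedCategory IsLocalRing Pretriangulated

namespace Groth.Agent.DRing.PointHom

open DBasic Homology

variable (O : Type u) [CommRing O]

/-- All cohomology modules are finite. -/
def FinH {O : Type u} [CommRing O] (L : Dual.D O) : Prop :=
  ∀ i, Module.Finite O ((HF i).obj L)

/-- All morphisms from `K` to `Y` are zero. -/
def NoHom {O : Type u} [CommRing O] (K Y : Dual.D O) : Prop := ∀ φ : K ⟶ Y, φ = 0

variable {O}

theorem NoHom.of_iso {K Y Y' : Dual.D O} (h : NoHom K Y) (e : Y ≅ Y') : NoHom K Y' := fun φ => by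
  rw [← cancel_mono e.inv, zero_comp]; exact h _

theorem NoHom.of_iso_left {K K' Y : Dual.D O} (h : NoHom K Y) (e : K ≅ K') : NoHom K' Y := fun φ => by
  rw [← cancel_epi e.hom, comp_zero]; exact h _

theorem finite_of_exact {O : Type u} [CommRing O] [IsNoetherianRing O] {S : ShortComplex (ModuleCat.{u} O)}
    (h : S.Exact) (h₁ : Module.Finite O S.X₁) (h₃ : Module.Finite O S.X₃) : Module.Finite O S.X₂ := by
  have : IsNoetherian O S.X₁ := isNoetherian_of_isNoetherianRing_of_finite O S.X₁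
  have : IsNoetherian O S.X₃ := isNoetherian_of_isNoetherianRing_of_finite O S.X₃
  have : IsNoetherian O S.X₂ := isNoetherian_of_range_eq_ker S.f.hom S.g.hom
    ((ShortComplex.moduleCat_exact_iff_range_eq_ker S).1 h)
  infer_instance

section Top

variable [IsLocalRing O]

/-- A nonzero finite module has a nonzero map to the residue field. -/
theorem exists_to_residue (M : Type u) [AddCommGroup M] [Module O M] [Module.Finite O M] [Nontrivial M] :
    ∃ g : M →ₗ[O] ResidueField O, g ≠ 0 := by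
  have : Nontrivial (TensorProduct O (ResidueField O) M) := by
    rw [← not_subsingleton_iff_nontrivial, IsLocalRing.subsingleton_tensorProduct]
    exact not_subsingleton M
  obtain ⟨v, hv⟩ := exists_ne (0 : TensorProduct O (ResidueField O) M)
  obtain ⟨f, hf⟩ := Module.Projective.exists_dual_ne_zero (ResidueField O) hv
  refine ⟨(f.restrictScalars O).comp (TensorProduct.mk O (ResidueField O) M 1), fun h => hf ?_⟩
  suffices ∀ w, f w = 0 from this v
  intro w
  induction w with
  | zero => exact map_zero f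
  | add a b ha hb => rw [map_add, ha, hb, add_zero]
  | tmul c m =>
    have h1 : f ((1 : ResidueField O) ⊗ₜ[O] m) = 0 := LinearMap.congr_fun h m
    rw [show (c ⊗ₜ[O] m : TensorProduct O (ResidueField O) M) = c • (1 ⊗ₜ[O] m) by
      rw [TensorProduct.smul_tmul', smul_eq_mul, mul_one], map_smul, h1, smul_zero]

/-- The vanishing of morphisms to the residue field bounds the cohomology from above. -/
theorem isZero_of_noHom_residue (L : Dual.D O) (hfin : FinH L) (c : ℤ) [L.IsLE c] (b : ℤ)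
    (h : ∀ i : ℤ, b < i → NoHom L ((shiftFunctor (Dual.D O) (-i)).obj
      ((singleFunctor (ModuleCat.{u} O) 0).obj (ModuleCat.of O (ResidueField O))))) :
    ∀ i : ℤ, b < i → IsZero ((HF i).obj L) := by
  classical
  by_contra hne
  push Not at hne
  have hbdd : ∀ i, b < i ∧ ¬ IsZero ((HF i).obj L) → i ≤ c := fun i hi =>
    not_lt.1 fun hc => hi.2 (L.isZero_of_isLE c i hc)
  obtain ⟨m, ⟨hbm, hm⟩, hmax⟩ :=
    Int.exists_greatest_of_bdd ⟨c, hbdd⟩ hne
  haveI : L.IsLE m := (DerivedCategory.isLE_iff _ _).2 fun i hi => by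
    by_contra hi'
    exact absurd (hmax i ⟨by omega, hi'⟩) (by omega)
  obtain ⟨K, _, ⟨e⟩⟩ := L.exists_iso_Q_obj_of_isLE m
  let eH : (HF m).obj L ≅ K.homology m := (HF m).mapIso e ≪≫ hIso K m
  haveI : Module.Finite O (K.homology m) := haveI := hfin m; Module.Finite.equiv eH.toLinearEquiv
  haveI : Nontrivial (K.homology m) := not_subsingleton_iff_nontrivial.1 fun _ =>
    hm ((ModuleCat.isZero_of_subsingleton (K.homology m)).of_iso eH)
  obtain ⟨g, hg⟩ := exists_to_residue (O := O) (K.homology m)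
  let κ := ModuleCat.of O (ResidueField O)
  have hz : IsZero (K.X (m + 1)) := K.isZero_of_isStrictlyLE m _ (by omega)
  have hcyc : ∀ x : K.X m, IsCyc K m x := fun x => by
    haveI := ModuleCat.subsingleton_of_isZero hz
    exact Subsingleton.elim _ _
  let p : K.X m →ₗ[O] ResidueField O :=
    { toFun := fun x => g (cls x (hcyc x))
      map_add' := fun x y => by rw [← map_add, ← cls_add]
      map_smul' := fun a x => by rw [RingHom.id_apply, ← map_smul, ← cls_smul] }
  let φ : K ⟶ (HomologicalComplex.single (ModuleCat.{u} O) (ComplexShape.up ℤ) m).obj κ :=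
    HomologicalComplex.mkHomToSingle (ModuleCat.ofHom p) fun i (hi : i + 1 = m) =>
      ModuleCat.hom_ext (LinearMap.ext fun x => by
        show g (cls ((K.d i m).hom x) (hcyc _)) = 0
        rw [show cls ((K.d i m).hom x) (hcyc _) = 0 from cls_d m i hi x, map_zero])
  have hφ : Q.map φ = 0 := by
    let t := (singleFunctorIsoCompQ (ModuleCat.{u} O) m).app κ
    have h0 := ((h m hbm).of_iso ((((singleFunctors (ModuleCat.{u} O)).shiftIso (-m) m 0 (by omega)).app κ) ≪≫ t)).of_iso_left e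
    exact h0 _
  have hH : HomologicalComplex.homologyMap φ m = 0 := by
    have := HF_map_Q φ m
    rw [hφ, Functor.map_zero, zero_comp] at this
    exact (cancel_epi (hIso K m).hom).1 (this.symm.trans comp_zero.symm)
  refine hg (LinearMap.ext fun y => ?_)
  obtain ⟨x, hx, rfl⟩ := cls_surjective y
  have h2 := homologyMap_cls φ hx
  rw [hH] at h2
  have h3 := (cls_eq_zero_iff (m - 1) (by omega) (isCyc_map φ hx)).1 h2.symm
  obtain ⟨w, hw⟩ := h3
  have hw0 : (φ.f m).hom x = 0 := by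
    rw [← hw, HomologicalComplex.single_obj_d]
    rfl
  rw [HomologicalComplex.mkHomToSingle_f] at hw0
  have hinj := ((HomologicalComplex.singleObjXSelf (ComplexShape.up ℤ) m κ).symm.toLinearEquiv).injective
  exact hinj (hw0.trans (map_zero _).symm)

/-- Above the cohomological bound there are no morphisms to the residue field. -/
theorem noHom_residue (L : Dual.D O) (b : ℤ) (h : ∀ i : ℤ, b < i → IsZero ((HF i).obj L)) (i : ℤ)
    (hi : b < i) : NoHom L ((shiftFunctor (Dual.D O) (-i)).obj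
      ((singleFunctor (ModuleCat.{u} O) 0).obj (ModuleCat.of O (ResidueField O)))) := by
  haveI : L.IsLE b := (DerivedCategory.isLE_iff _ _).2 h
  refine NoHom.of_iso (fun φ => ?_) (((singleFunctors (ModuleCat.{u} O)).shiftIso (-i) i 0 (by omega)).app _).symm
  exact TStructure.t.zero_of_isLE_of_isGE φ b i hi inferInstance inferInstance

end Top

section Bottom

/-- Morphisms out of `O` detect cohomology. -/
theorem isZero_of_noHom_free (L : Dual.D O) (i : ℤ)
    (h : NoHom (DRing.toD ((CochainComplex.singleFunctor (ModuleCat.{u} O) 0).obj (ModuleCat.of O O)))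
      ((shiftFunctor (Dual.D O) i).obj L)) : IsZero ((HF i).obj L) := by
  let K := Q.objPreimage ((shiftFunctor (Dual.D O) i).obj L)
  let e : DRing.toD K ≅ (shiftFunctor (Dual.D O) i).obj L := Q.objObjPreimageIso _
  suffices ∀ y : K.homology 0, y = 0 by
    haveI : Subsingleton (K.homology 0) := subsingleton_of_forall_eq 0 this
    exact ((ModuleCat.isZero_of_subsingleton (K.homology 0)).of_iso
      ((HFShiftIso L i 0 i (by omega)).symm ≪≫ (HF 0).mapIso e.symm ≪≫ hIso K 0))
  intro y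
  obtain ⟨z, hz, rfl⟩ := cls_surjective y
  let φ : (CochainComplex.singleFunctor (ModuleCat.{u} O) 0).obj (ModuleCat.of O O) ⟶ K :=
    HomologicalComplex.mkHomFromSingle (ModuleCat.ofHom (LinearMap.toSpanSingleton O (K.X 0) z))
      fun j _ => ModuleCat.hom_ext (LinearMap.ext_ring (by
        show (K.d 0 j).hom ((1 : O) • z) = 0
        rw [one_smul]
        by_cases hj : (0 : ℤ) + 1 = j
        · exact (isCyc_iff hj z).1 hz
        · rw [K.shape _ _ hj]; rfl))
  have hφ : Q.map φ = 0 := (h.of_iso e.symm) _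
  have hH : HomologicalComplex.homologyMap φ 0 = 0 := by
    have := HF_map_Q φ 0
    rw [hφ, Functor.map_zero, zero_comp] at this
    exact (cancel_epi (hIso _ 0).hom).1 (this.symm.trans comp_zero.symm)
  let one := (HomologicalComplex.singleObjXSelf (ComplexShape.up ℤ) (0 : ℤ) (ModuleCat.of O O)).inv.hom (1 : O)
  have hone : IsCyc ((CochainComplex.singleFunctor (ModuleCat.{u} O) 0).obj (ModuleCat.of O O)) 0 one := by
    show (((HomologicalComplex.single (ModuleCat.{u} O) (ComplexShape.up ℤ) 0).obj _).d 0 1).hom one = 0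
    rw [HomologicalComplex.single_obj_d]; rfl
  have h2 := homologyMap_cls φ hone
  rw [hH] at h2
  have h1 : (φ.f 0).hom one = z := by
    show ((HomologicalComplex.singleObjXSelf (ComplexShape.up ℤ) (0 : ℤ) (ModuleCat.of O O)).inv ≫ φ.f 0).hom (1 : O) = z
    simp only [φ, HomologicalComplex.mkHomFromSingle_f, Iso.inv_hom_id_assoc]
    exact one_smul O z
  have h3 : cls z hz = cls ((φ.f 0).hom one) (isCyc_map φ hone) := by congr 1; exact h1.symm
  rw [h3]
  exact h2.symm

end Bottom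

section Abstract

variable {R : Type u} [CommRing R] {D : Type*} [Category D] [HasZeroObject D] [HasShift D ℤ]
  [Preadditive D] [∀ n : ℤ, (shiftFunctor D n).Additive] [Pretriangulated D] [CategoryTheory.Linear R D]
  [∀ n : ℤ, (shiftFunctor D n).Linear R]

theorem exists_smul_eq (f : R) {K C Y : D} {u : K ⟶ C} {w : C ⟶ K⟦(1 : ℤ)⟧}
    (hT : Triangle.mk (f • 𝟙 K) u w ∈ distTriang D)
    (hY : ∀ χ : C ⟶ Y⟦(1 : ℤ)⟧, χ = 0) (ψ : K ⟶ Y) : ∃ ψ' : K ⟶ Y, f • ψ' = ψ := by
  obtain ⟨χ, hχ⟩ : ∃ χ : K⟦(1 : ℤ)⟧ ⟶ Y⟦(1 : ℤ)⟧, ψ⟦(1 : ℤ)⟧' = (-((f • 𝟙 K)⟦(1 : ℤ)⟧')) ≫ χ :=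
    Triangle.yoneda_exact₂ _ (rot_of_distTriang _ (rot_of_distTriang _ hT)) (ψ⟦(1 : ℤ)⟧') (hY _)
  obtain ⟨θ, hθ⟩ := (shiftFunctor D (1 : ℤ)).map_surjective χ
  refine ⟨-θ, (shiftFunctor D (1 : ℤ)).map_injective ?_⟩
  rw [hχ, ← hθ, Functor.map_smul, Functor.map_neg, Functor.map_smul, CategoryTheory.Functor.map_id,
    Preadditive.neg_comp, Linear.smul_comp, Category.id_comp, smul_neg]

theorem eq_zero_of_smul_eq_zero (f : R) {K C Y : D} {u : K ⟶ C} {w : C ⟶ K⟦(1 : ℤ)⟧}
    (hT : Triangle.mk (f • 𝟙 K) u w ∈ distTriang D)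
    (hY : ∀ χ : C ⟶ Y, χ = 0) (ψ : K ⟶ Y) (h : f • ψ = 0) : ψ = 0 := by
  obtain ⟨φ, hφ⟩ : ∃ φ : C ⟶ Y, ψ = u ≫ φ := Triangle.yoneda_exact₂ _ hT ψ
    (show (f • 𝟙 K) ≫ ψ = 0 by rw [Linear.smul_comp, Category.id_comp, h])
  rw [hφ, hY φ, comp_zero]

theorem eq_zero_of_cone (f : R) {K C Z Z' : D} {u : K ⟶ C} {w : C ⟶ K⟦(1 : ℤ)⟧}
    (hT : Triangle.mk (f • 𝟙 K) u w ∈ distTriang D) {g : R} (hg : g = f ∨ g = -f)
    {v : Z ⟶ Z'} {d : Z' ⟶ Z⟦(1 : ℤ)⟧} (hS : Triangle.mk (g • 𝟙 Z) v d ∈ distTriang D)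
    (h₁ : ∀ χ : C ⟶ Z⟦(1 : ℤ)⟧, χ = 0) (φ : K ⟶ Z') : φ = 0 := by
  have hd : φ ≫ d = 0 := by
    refine eq_zero_of_smul_eq_zero f hT h₁ _ ?_
    have h0 : d ≫ (g • 𝟙 Z)⟦(1 : ℤ)⟧' = 0 := comp_distTriang_mor_zero₃₁ _ hS
    rw [Functor.map_smul, CategoryTheory.Functor.map_id, Linear.comp_smul, Category.comp_id] at h0
    rcases hg with rfl | rfl
    · rw [← Linear.comp_smul, h0, comp_zero]
    · rw [neg_smul, neg_eq_zero] at h0
      rw [← Linear.comp_smul, h0, comp_zero]
  obtain ⟨ψ, hψ⟩ : ∃ ψ : K ⟶ Z, φ = ψ ≫ v := Triangle.coyoneda_exact₃ _ hS φ hd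
  obtain ⟨ψ', hψ'⟩ := exists_smul_eq f hT h₁ ψ
  have h0 : (g • 𝟙 Z) ≫ v = 0 := comp_distTriang_mor_zero₁₂ _ hS
  rw [Linear.smul_comp, Category.id_comp] at h0
  rw [hψ, ← hψ', Linear.smul_comp, ← Linear.comp_smul]
  rcases hg with rfl | rfl
  · rw [h0, comp_zero]
  · rw [neg_smul, neg_eq_zero] at h0
    rw [h0, comp_zero]

end Abstract

section Bottom

theorem shiftAddIso' {L : Dual.D O} (i j : ℤ) :
    Nonempty (L⟦i⟧⟦j⟧ ≅ L⟦i + j⟧) :=
  ⟨((shiftFunctorAdd (Dual.D O) i j).app L).symm⟩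

theorem isZero_of_noHom_koszul [IsLocalRing O] [IsNoetherianRing O] : ∀ (l : List O), (∀ a ∈ l, a ∈ maximalIdeal O) →
    ∀ L : Dual.D O, FinH L → (∀ i : ℤ, NoHom (DRing.toD (Koszul.koszul O l)) (L⟦i⟧)) →
      ∀ i, IsZero ((HF i).obj L)
  | [], _, L, _, h, i => isZero_of_noHom_free L i (h i)
  | f :: l, hl, L, hfin, h, i => by
    obtain ⟨C, v, w, hC⟩ := distinguished_cocone_triangle (f • 𝟙 L)
    let K := DRing.toD (Koszul.koszul O l)
    obtain ⟨u', w', hT⟩ : ∃ (u' : K ⟶ DRing.toD (Koszul.koszul O (f :: l))) (w' : _ ⟶ K⟦(1 : ℤ)⟧),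
        Triangle.mk (f • 𝟙 K) u' w' ∈ distTriang (Dual.D O) := by
      have h1 := mappingCone_triangle_distinguished (f • 𝟙 (Koszul.koszul O l))
      have h2 : Q.map (f • 𝟙 (Koszul.koszul O l)) = f • 𝟙 K := by
        rw [Functor.map_smul, CategoryTheory.Functor.map_id]
      refine ⟨(Q.mapTriangle.obj (CochainComplex.mappingCone.triangle (f • 𝟙 (Koszul.koszul O l)))).mor₂,
        (Q.mapTriangle.obj (CochainComplex.mappingCone.triangle (f • 𝟙 (Koszul.koszul O l)))).mor₃, ?_⟩
      rw [← h2]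
      exact h1
    have hN : ∀ i j : ℤ, NoHom (DRing.toD (Koszul.koszul O (f :: l))) (L⟦i⟧⟦j⟧) := fun i j =>
      (h (i + j)).of_iso (shiftAddIso' i j).some.symm
    have hCfin : FinH C := fun j => by
      have hex := (homologyFunctor (ModuleCat.{u} O) 0).homologySequence_exact₃ _ hC j (j + 1) rfl
      exact finite_of_exact hex (hfin j) (hfin (j + 1))
    have hCN : ∀ i : ℤ, NoHom K (C⟦i⟧) := fun i φ => by
      obtain ⟨g, hg, v', d', hS⟩ : ∃ g : O, (g = f ∨ g = -f) ∧ ∃ (v' : L⟦i⟧ ⟶ C⟦i⟧) (d' : C⟦i⟧ ⟶ L⟦i⟧⟦(1 : ℤ)⟧),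
          Triangle.mk (g • 𝟙 (L⟦i⟧)) v' d' ∈ distTriang (Dual.D O) := by
        have hCi := Triangle.shift_distinguished _ hC i
        have h1 : ((Triangle.shiftFunctor (Dual.D O) i).obj (Triangle.mk (f • 𝟙 L) v w)).mor₁ =
            i.negOnePow • (f • 𝟙 (L⟦i⟧)) := by
          show i.negOnePow • (f • 𝟙 L)⟦i⟧' = _
          rw [Functor.map_smul, CategoryTheory.Functor.map_id]
        rcases Int.units_eq_one_or i.negOnePow with he | he
        · refine ⟨f, Or.inl rfl, ((Triangle.shiftFunctor (Dual.D O) i).obj (Triangle.mk (f • 𝟙 L) v w)).mor₂,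
            ((Triangle.shiftFunctor (Dual.D O) i).obj (Triangle.mk (f • 𝟙 L) v w)).mor₃, ?_⟩
          rw [show f • 𝟙 (L⟦i⟧) = i.negOnePow • (f • 𝟙 (L⟦i⟧)) by rw [he, one_smul], ← h1]
          exact hCi
        · refine ⟨-f, Or.inr rfl, ((Triangle.shiftFunctor (Dual.D O) i).obj (Triangle.mk (f • 𝟙 L) v w)).mor₂,
            ((Triangle.shiftFunctor (Dual.D O) i).obj (Triangle.mk (f • 𝟙 L) v w)).mor₃, ?_⟩
          rw [show (-f) • 𝟙 (L⟦i⟧) = i.negOnePow • (f • 𝟙 (L⟦i⟧)) by rw [he, Units.neg_smul, one_smul, neg_smul], ← h1]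
          exact hCi
      exact eq_zero_of_cone f hT hg hS (hN i 1) φ
    have hz := isZero_of_noHom_koszul l (fun a ha => hl a (List.mem_cons_of_mem _ ha)) C hCfin hCN
    have hiso : IsIso (f • 𝟙 L) := by
      refine (Triangle.isZero₃_iff_isIso₁ _ hC).1 ?_
      haveI : C.IsLE (-1) := (DerivedCategory.isLE_iff _ _).2 fun j _ => hz j
      haveI : C.IsGE 0 := (DerivedCategory.isGE_iff _ _).2 fun j _ => hz j
      exact (IsZero.iff_id_eq_zero C).2 (TStructure.t.zero_of_isLE_of_isGE _ (-1) 0 (by omega) inferInstance inferInstance)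
    haveI := hfin i
    have hsurj : ∀ y : (HF i).obj L, ∃ x, f • x = y := by
      intro y
      let P := Q.objPreimage L
      let e : DRing.toD P ≅ L := Q.objObjPreimageIso L
      have h1 : f • 𝟙 L = e.inv ≫ Q.map (f • 𝟙 P) ≫ e.hom := by
        rw [Functor.map_smul, CategoryTheory.Functor.map_id, Linear.smul_comp, Category.id_comp,
          Linear.comp_smul, e.inv_hom_id]
      haveI : IsIso (Q.map (f • 𝟙 P)) := by
        have : Q.map (f • 𝟙 P) = e.hom ≫ (f • 𝟙 L) ≫ e.inv := by rw [h1]; simp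
        rw [this]; infer_instance
      have h2 : IsIso (HomologicalComplex.homologyMap (f • 𝟙 P) i) := by
        have h3 := HF_map_Q_eq (f • 𝟙 P) i
        have : HomologicalComplex.homologyMap (f • 𝟙 P) i =
            (hIso P i).inv ≫ (HF i).map (Q.map (f • 𝟙 P)) ≫ (hIso P i).hom := by rw [h3]; simp
        rw [this]; infer_instance
      let eH : (HF i).obj L ≅ P.homology i := (HF i).mapIso e.symm ≪≫ hIso P i
      obtain ⟨x, hx⟩ := ((ConcreteCategory.isIso_iff_bijective _).1 h2).2 (eH.hom y)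
      refine ⟨eH.toLinearEquiv.symm x, eH.toLinearEquiv.injective ?_⟩
      rw [map_smul, LinearEquiv.apply_symm_apply]
      rw [KosCone.Basic.homologyMap_smul_id] at hx
      exact hx
    refine @ModuleCat.isZero_of_subsingleton _ _ _ ?_
    have hle : (⊤ : Submodule O ((HF i).obj L)) ≤ maximalIdeal O • ⊤ := fun y _ => by
      obtain ⟨x, rfl⟩ := hsurj y
      exact Submodule.smul_mem_smul (hl f List.mem_cons_self) trivial
    exact (Submodule.subsingleton_iff O).1 (subsingleton_of_bot_eq_top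
      (Submodule.eq_bot_of_le_smul_of_le_jacobson_bot _ ⊤ (Module.Finite.fg_top) hle
        (IsLocalRing.maximalIdeal_le_jacobson _)).symm)

end Bottom

/-- Over a regular local ring, an object with finite cohomology and no morphisms from the residue
field is zero. -/
theorem isZero_of_noHom_from_residue [IsRegularLocalRing O] (L : Dual.D O) (hfin : FinH L)
    (h : ∀ i : ℤ, NoHom ((singleFunctor (ModuleCat.{u} O) 0).obj (ModuleCat.of O (ResidueField O))) (L⟦i⟧))
    (i : ℤ) : IsZero ((HF i).obj L) := by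
  classical
  obtain ⟨s, hs, hcard⟩ : ∃ s : List O, Ideal.ofList s = maximalIdeal O ∧ (s.length : WithBot ℕ∞) ≤ ringKrullDim O := by
    obtain ⟨t, hc, ht⟩ := Submodule.FG.exists_span_finset_card_eq_spanFinrank (IsNoetherian.noetherian (maximalIdeal O))
    refine ⟨t.toList, ?_, ?_⟩
    · rw [Ideal.ofList]
      refine Eq.trans ?_ ht
      congr 1
      ext a
      simp
    · rw [Finset.length_toList, hc, IsRegularLocalRing.spanFinrank_maximalIdeal]
  have hcm := Depth.isCohenMacaulayLocalRing_of_isRegularLocalRing (R := O)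
  have hwr : RingTheory.Sequence.IsWeaklyRegular O s := CMSeq.isWeaklyRegular_of_radical s O hcm.supportDim_eq_depth
    hs.le (by rw [hs]; exact Ideal.le_radical.trans (Ideal.radical_mono le_sup_right))
    (by rwa [Module.supportDim_self_eq_ringKrullDim])
  have hk : ∀ j : ℤ, j ≠ 0 → IsZero ((Koszul.koszul O s.reverse).homology j) :=
    KoszulWiebe.acyclic_of_isWeaklyRegular_reverse s.reverse (by rwa [List.reverse_reverse])
  have hr : Ideal.ofList s.reverse = maximalIdeal O := by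
    rw [← hs]; simp [Ideal.ofList, List.mem_reverse]
  obtain ⟨π, hπ, hker⟩ := KosCone.Basic.exists_toH0 s.reverse
  let S := (CochainComplex.singleFunctor (ModuleCat.{u} O) 0).obj (ModuleCat.of O (ResidueField O))
  have e0 : (Koszul.koszul O s.reverse).homology 0 ≅ S.homology 0 :=
    ((Submodule.quotEquivOfEq (maximalIdeal O) (LinearMap.ker π) (hr.symm.trans hker.symm)) ≪≫ₗ LinearMap.quotKerEquivOfSurjective π hπ).toModuleIso.symm ≪≫
      (HomologicalComplex.singleObjHomologySelfIso (ComplexShape.up ℤ) 0 _).symm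
  obtain ⟨e⟩ := KoszulLift.nonempty_iso_of_homology (Y := S) hk (fun j hj =>
    ((S.exactAt_iff_isZero_homology j).1 (HomologicalComplex.exactAt_single_obj _ _ _ _ hj))) e0
  refine isZero_of_noHom_koszul s.reverse (fun a ha => ?_) L hfin (fun j => ?_) i
  · rw [← hr]; exact Ideal.subset_span ha
  · exact (h j).of_iso_left ((singleFunctorIsoCompQ (ModuleCat.{u} O) 0).app _ ≪≫ e.symm)

end Groth.Agent.DRing.PointHom
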