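import Groth.Agent.DRing.PointHom.Residue
import Groth.Agent.DRing.PointHom.Local
import Groth.Agent.DRing.DerivedAdj
import Groth.Agent.DualCx.SchStalk
import Groth.Agent.FDesc.QuasiFlat
import Groth.Agent.CohDev.Coh
import Groth.Prelude.Def_DCoh2
import Groth.Prelude.Def_CohB1
import Mathlib.CategoryTheory.Localization.Adjunction
import Mathlib.AlgebraicGeometry.Noetherian

/-!
# Morphisms to the point sheaf are morphisms out of the stalk
-/

set_option autoImplicit false

universe w w' v v' t t' u

open CategoryTheory CategoryTheory.Limits AlgebraicGeometry Pretriangulated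
open Groth.Agent.KFlat.StalkTensor

attribute [local instance] HasDerivedCategory.standard

namespace Groth.Agent.DRing.PointHom

section Abs

variable {A : Type t} [Category.{v} A] [Abelian A] [HasDerivedCategory.{w} A]
  {B : Type t'} [Category.{v'} B] [Abelian B] [HasDerivedCategory.{w'} B]
  {L : A ⥤ B} [L.Additive] [PreservesFiniteLimits L] [PreservesFiniteColimits L]
  {R : B ⥤ A} [R.Additive] [PreservesFiniteLimits R] [PreservesFiniteColimits R]

/-- Exact adjoint functors give adjoint functors on derived categories. -/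
noncomputable def derAdj (adj : L ⊣ R) : L.mapDerivedCategory ⊣ R.mapDerivedCategory :=
  let : CatCommSq (L.mapHomotopyCategory (ComplexShape.up ℤ)) DerivedCategory.Qh DerivedCategory.Qh
      L.mapDerivedCategory := ⟨L.mapDerivedCategoryFactorsh.symm⟩
  let : CatCommSq (R.mapHomotopyCategory (ComplexShape.up ℤ)) DerivedCategory.Qh DerivedCategory.Qh
      R.mapDerivedCategory := ⟨R.mapDerivedCategoryFactorsh.symm⟩
  (DerivedAdj.mapHomotopyCategoryAdj adj).localization DerivedCategory.Qh
    (HomotopyCategory.quasiIso A (ComplexShape.up ℤ))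
    DerivedCategory.Qh (HomotopyCategory.quasiIso B (ComplexShape.up ℤ)) _ _

theorem hom_zero_iff (adj : L ⊣ R) (K : DerivedCategory A) {M : A} {N : B} (e : M ≅ R.obj N) (n : ℤ) :
    (∀ φ : K ⟶ ((DerivedCategory.singleFunctor A 0).obj M)⟦n⟧, φ = 0) ↔
    (∀ ψ : L.mapDerivedCategory.obj K ⟶ ((DerivedCategory.singleFunctor B 0).obj N)⟦n⟧, ψ = 0) := by
  let e' : ((DerivedCategory.singleFunctor A 0).obj M)⟦n⟧ ≅
      R.mapDerivedCategory.obj (((DerivedCategory.singleFunctor B 0).obj N)⟦n⟧) :=
    (shiftFunctor _ n).mapIso ((DerivedCategory.singleFunctor A 0).mapIso e ≪≫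
      ((R.mapDerivedCategorySingleFunctor 0).app N).symm) ≪≫ ((R.mapDerivedCategory.commShiftIso n).app _).symm
  let E : (K ⟶ _) ≃ (L.mapDerivedCategory.obj K ⟶ _) := e'.homToEquiv.trans ((derAdj adj).homEquiv K _).symm
  refine ⟨fun h ψ => ?_, fun h φ => ?_⟩
  · haveI : Subsingleton (K ⟶ ((DerivedCategory.singleFunctor A 0).obj M)⟦n⟧) := subsingleton_of_forall_eq 0 h
    haveI := E.symm.subsingleton
    exact Subsingleton.elim _ _
  · haveI : Subsingleton (L.mapDerivedCategory.obj K ⟶ ((DerivedCategory.singleFunctor B 0).obj N)⟦n⟧) :=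
      subsingleton_of_forall_eq 0 h
    haveI := E.subsingleton
    exact Subsingleton.elim _ _

theorem isLE_map (K : DerivedCategory A) (c : ℤ) [K.IsLE c] : (L.mapDerivedCategory.obj K).IsLE c :=
  (DerivedCategory.isLE_iff _ _).2 fun i hi =>
    (L.map_isZero (K.isZero_of_isLE c i hi)).of_iso (DualCx.SchStalk.nonempty_homology_iso L K i).some

end Abs

variable {X : Scheme.{u}} (x : X)

instance : PreservesFiniteLimits (DerSch.stalkFunctor X x) :=
  (DerSch.stalkFunctor X x).preservesFiniteLimits_of_preservesHomology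

instance : PreservesFiniteColimits (DerSch.stalkFunctor X x) :=
  (DerSch.stalkFunctor X x).preservesFiniteColimits_of_preservesHomology

instance : PreservesFiniteLimits (skyF x) := (skyF x).preservesFiniteLimits_of_preservesHomology

instance : PreservesFiniteColimits (skyF x) := (skyF x).preservesFiniteColimits_of_preservesHomology

/-- The stalk on derived categories. -/
noncomputable abbrev stalkD : DCoh.D X ⥤ Dual.D (X.presheaf.stalk x) :=
  (DerSch.stalkFunctor X x).mapDerivedCategory

theorem isZero_stalkD_iff (K : DCoh.D X) (i : ℤ) :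
    IsZero ((DBasic.HF i).obj ((stalkD x).obj K)) ↔ x ∉ CohB1.support (DCoh.HD K i) := by
  rw [(DualCx.SchStalk.nonempty_homology_iso (DerSch.stalkFunctor X x) K i).some.isZero_iff]
  refine ⟨fun h hx => hx (ModuleCat.subsingleton_of_isZero h), fun h => ?_⟩
  haveI : Subsingleton ((DerSch.stalkFunctor X x).obj (DCoh.HD K i)) := not_not.1 h
  exact ModuleCat.isZero_of_subsingleton _

theorem finH_stalkD (K : DCoh.D X) (hK : DCoh.IsCohD K) : FinH ((stalkD x).obj K) := fun i => by
  haveI : Module.Finite (X.presheaf.stalk x) ((DerSch.stalkFunctor X x).obj (DCoh.HD K i)) :=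
    FDesc.QuasiFlat.finite_stalk_of_isCoh _ (hK i) x
  exact Module.Finite.equiv (DualCx.SchStalk.nonempty_homology_iso (DerSch.stalkFunctor X x) K i).some.symm.toLinearEquiv

theorem noHom_pointMod_iff (K : DCoh.D X) (n : ℤ) :
    (∀ φ : K ⟶ (shiftFunctor (DCoh.D X) n).obj (DCoh.inD X (pointMod x)), φ = 0) ↔
    NoHom ((stalkD x).obj K) ((shiftFunctor _ n).obj
      ((DerivedCategory.singleFunctor _ 0).obj (kappa x))) :=
  hom_zero_iff (stalkSkyAdj x) K (nonempty_iso x).some n

/-- Vanishing of stalk cohomology above `b` is vanishing of morphisms to the point sheaf. -/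
theorem support_iff_noHom [IsNoetherian X] (K : DCoh.D X) (hK : DCoh.IsCohD K) (c : ℤ) [K.IsLE c] (b : ℤ) :
    (∀ i : ℤ, b < i → x ∉ CohB1.support (DCoh.HD K i)) ↔
      ∀ i : ℤ, b < i → ∀ φ : K ⟶ (shiftFunctor (DCoh.D X) (-i)).obj (DCoh.inD X (pointMod x)), φ = 0 := by
  haveI : ((stalkD x).obj K).IsLE c := isLE_map K c
  constructor
  · intro h i hi
    exact (noHom_pointMod_iff x K (-i)).2
      (noHom_residue _ b (fun j hj => (isZero_stalkD_iff x K j).2 (h j hj)) i hi)
  · intro h i hi
    exact (isZero_stalkD_iff x K i).1 (isZero_of_noHom_residue _ (finH_stalkD x K hK) c b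
      (fun j hj => (noHom_pointMod_iff x K (-j)).1 (h j hj)) i hi)

/-- Vanishing of all stalks of cohomology at a point propagates to a neighbourhood. -/
theorem exists_open (K : DCoh.D X) (hK : DCoh.IsCohD K) (a c : ℤ) [K.IsGE a] [K.IsLE c]
    (h : ∀ i : ℤ, x ∉ CohB1.support (DCoh.HD K i)) :
    ∃ U : X.Opens, x ∈ U ∧ ∀ (i : ℤ) (y : X), y ∈ U → y ∉ CohB1.support (DCoh.HD K i) := by
  let Z : Set X := ⋃ i ∈ Finset.Icc a c, CohB1.support (DCoh.HD K i)
  have hZ : IsClosed Z := isClosed_biUnion_finset fun i _ => CohDev.isClosed_support (hK i)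
  refine ⟨⟨Zᶜ, hZ.isOpen_compl⟩, fun hx => ?_, fun i y hy hs => ?_⟩
  · obtain ⟨i, -, hi⟩ := Set.mem_iUnion₂.1 hx
    exact h i hi
  · by_cases hi : i ∈ Finset.Icc a c
    · exact hy (Set.mem_iUnion₂.2 ⟨i, hi, hs⟩)
    · refine hs ?_
      have hz : IsZero (DCoh.HD K i) := by
        rw [Finset.mem_Icc] at hi
        rcases lt_or_ge i a with h' | h'
        · exact K.isZero_of_isGE a i h'
        · exact K.isZero_of_isLE c i (not_le.1 fun hc => hi ⟨h', hc⟩)
      exact ModuleCat.subsingleton_of_isZero ((DerSch.stalkFunctor X y).map_isZero hz)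

end Groth.Agent.DRing.PointHom
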