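import Groth.Agent.DRing.PointHom.Local
import Groth.Agent.DRing.FibreAmp

/-!
# Transposes of complexes of free modules over a local ring
-/

set_option autoImplicit false

universe u

attribute [local instance] HasDerivedCategory.standard

open CategoryTheory CategoryTheory.Limits DerivedCategory IsLocalRing

namespace Groth.Agent.DRing.PointHom

open DBasic Homology

variable {O : Type u} [CommRing O] [IsLocalRing O]

/-- If functionals to the residue field are exact at the middle, so is the transposed pair modulo the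
maximal ideal. -/
theorem exists_sub_mem_of_transpose {α β γ : Type*} [Fintype α] [Fintype β] [Fintype γ]
    {EM E₀ EP FM F₀ FP : Type u} [AddCommGroup EM] [AddCommGroup E₀] [AddCommGroup EP] [AddCommGroup FM]
    [AddCommGroup F₀] [AddCommGroup FP] [Module O EM] [Module O E₀] [Module O EP] [Module O FM]
    [Module O F₀] [Module O FP]
    (bM : Module.Basis α O EM) (b₀ : Module.Basis β O E₀) (bP : Module.Basis γ O EP)
    (cP : Module.Basis α O FP) (c₀ : Module.Basis β O F₀) (cM : Module.Basis γ O FM)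
    (dM : EM →ₗ[O] E₀) (dP : E₀ →ₗ[O] EP) (eM : FM →ₗ[O] F₀) (eP : F₀ →ₗ[O] FP)
    {u u' : O} (hu : IsUnit u) (hu' : IsUnit u')
    (h₀ : ∀ a b, cP.repr (eP (c₀ b)) a = u * b₀.repr (dM (bM a)) b)
    (h₁ : ∀ b c, c₀.repr (eM (cM c)) b = u' * bP.repr (dP (b₀ b)) c)
    (h : ∀ g : E₀ →ₗ[O] ResidueField O, g ∘ₗ dM = 0 → ∃ s : EP →ₗ[O] ResidueField O, g = s ∘ₗ dP)
    (x : F₀) (hx : eP x ∈ maximalIdeal O • (⊤ : Submodule O FP)) :
    ∃ y : FM, x - eM y ∈ maximalIdeal O • (⊤ : Submodule O F₀) := by
  classical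
  let g : E₀ →ₗ[O] ResidueField O := b₀.constr O fun b => residue O (c₀.repr x b)
  have hres : ∀ (r : O) (z : ResidueField O), r • z = residue O r * z := fun r z => Algebra.smul_def r z
  have hg : g ∘ₗ dM = 0 := bM.ext fun a => by
    have h1 : cP.repr (eP x) a ∈ maximalIdeal O := by
      refine Submodule.smul_induction_on hx (fun r hr z _ => ?_) (fun z z' hz hz' => ?_)
      · rw [map_smul, Finsupp.smul_apply, smul_eq_mul]
        exact Ideal.mul_mem_right _ _ hr
      · rw [map_add, Finsupp.add_apply]; exact add_mem hz hz'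
    have h2 : cP.repr (eP x) a = u * ∑ b, c₀.repr x b * b₀.repr (dM (bM a)) b := by
      conv_lhs => rw [← c₀.sum_repr x, map_sum, map_sum, Finsupp.finsetSum_apply]
      rw [Finset.mul_sum]
      refine Finset.sum_congr rfl fun b _ => ?_
      rw [map_smul, map_smul, Finsupp.smul_apply, smul_eq_mul, h₀]
      ring
    have h3 : ∑ b, c₀.repr x b * b₀.repr (dM (bM a)) b ∈ maximalIdeal O := by
      rw [h2] at h1
      exact (Ideal.unit_mul_mem_iff_mem _ hu).1 h1
    rw [LinearMap.comp_apply, LinearMap.zero_apply]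
    conv_lhs => rw [← b₀.sum_repr (dM (bM a)), map_sum]
    refine Eq.trans ?_ ((residue_eq_zero_iff _).2 h3)
    rw [map_sum]
    refine Finset.sum_congr rfl fun b _ => ?_
    rw [map_smul, Module.Basis.constr_basis, hres, ← map_mul, mul_comm]
  obtain ⟨s, hs⟩ := h g hg
  choose w hw using fun c => IsLocalRing.residue_surjective (s (bP c))
  obtain ⟨v, hv⟩ := hu'.exists_left_inv
  refine ⟨∑ c, (v * w c) • cM c, ?_⟩
  have key : ∀ b, c₀.repr (x - eM (∑ c, (v * w c) • cM c)) b ∈ maximalIdeal O := fun b => by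
    rw [← residue_eq_zero_iff, map_sub, Finsupp.sub_apply, map_sub, sub_eq_zero, map_sum, map_sum,
      Finsupp.finsetSum_apply, map_sum]
    have h1 : residue O (c₀.repr x b) = ∑ c, residue O (bP.repr (dP (b₀ b)) c) * residue O (w c) := by
      have e := LinearMap.congr_fun hs (b₀ b)
      rw [Module.Basis.constr_basis] at e
      rw [e, LinearMap.comp_apply]
      conv_lhs => rw [← bP.sum_repr (dP (b₀ b)), map_sum]
      refine Finset.sum_congr rfl fun c _ => ?_
      rw [map_smul, hres, hw]
    rw [h1]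
    refine Finset.sum_congr rfl fun c _ => ?_
    rw [map_smul, map_smul, Finsupp.smul_apply, smul_eq_mul, h₁, ← map_mul]
    refine congrArg (residue O) ?_
    calc _ = (v * u') * (bP.repr (dP (b₀ b)) c * w c) := by rw [hv, one_mul]
      _ = _ := by ring
  rw [← c₀.sum_repr (x - eM (∑ c, (v * w c) • cM c))]
  exact Submodule.sum_mem _ fun b _ => Submodule.smul_mem_smul (key b) trivial

/-- Without morphisms to the shifted residue field, functionals killing boundaries are coboundaries. -/
theorem exists_factor_of_noHom (L : DRing.Cx O) [L.IsKProjective] (m n p : ℤ) (hm : m + 1 = n) (hp : n + 1 = p)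
    (h : NoHom (DRing.toD L) (((singleFunctor (ModuleCat.{u} O) 0).obj (ModuleCat.of O (ResidueField O)))⟦-n⟧))
    (g : L.X n →ₗ[O] ResidueField O) (hg : g ∘ₗ (L.d m n).hom = 0) :
    ∃ s : L.X p →ₗ[O] ResidueField O, g = s ∘ₗ (L.d n p).hom := by
  let κ := ModuleCat.of O (ResidueField O)
  let φ : L ⟶ (HomologicalComplex.single (ModuleCat.{u} O) (ComplexShape.up ℤ) n).obj κ :=
    HomologicalComplex.mkHomToSingle (ModuleCat.ofHom g) fun i (hi : i + 1 = n) => by
      obtain rfl : i = m := by omega
      exact ModuleCat.hom_ext hg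
  have hφ : Q.map φ = 0 :=
    (h.of_iso ((((singleFunctors (ModuleCat.{u} O)).shiftIso (-n) n 0 (by omega)).app κ) ≪≫
      (singleFunctorIsoCompQ (ModuleCat.{u} O) n).app κ)) _
  obtain ⟨H⟩ := (Q_map_eq_iff φ 0).1 (hφ.trans (Functor.map_zero _ _ _).symm)
  have hk := H.comm n
  rw [HomologicalComplex.zero_f, add_zero, dNext_eq _ (show (ComplexShape.up ℤ).Rel n p from hp),
    prevD_eq _ (show (ComplexShape.up ℤ).Rel m n from hm), HomologicalComplex.single_obj_d, comp_zero,
    add_zero] at hk
  refine ⟨((H.hom p n) ≫ (HomologicalComplex.singleObjXSelf (ComplexShape.up ℤ) n κ).hom).hom, ?_⟩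
  have hk' := congrArg (fun q => q ≫ (HomologicalComplex.singleObjXSelf (ComplexShape.up ℤ) n κ).hom) hk
  simp only [φ, HomologicalComplex.mkHomToSingle_f, Category.assoc, Iso.inv_hom_id, Category.comp_id] at hk'
  exact congrArg ModuleCat.Hom.hom hk'

/-- A complex of finite free modules which is exact modulo the maximal ideal is exact. -/
theorem isZero_homology_of_fibre (F : DRing.Cx O) (m n p : ℤ) (hm : m + 1 = n) (hp : n + 1 = p)
    [Module.Finite O (F.X n)] [Module.Projective O (F.X n)] [Module.Projective O (F.X p)]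
    (h : ∀ x, (F.d n p).hom x ∈ maximalIdeal O • (⊤ : Submodule O (F.X p)) →
      ∃ y, x - (F.d m n).hom y ∈ maximalIdeal O • (⊤ : Submodule O (F.X n))) :
    IsZero (F.homology n) := by
  obtain ⟨s, hs, r, t, hrt⟩ := FibreAmp.exists_contraction (F.d m n).hom (F.d n p).hom
    (LinearMap.ext fun x => d_d m n p x) (maximalIdeal O) h
  refine (F.exactAt_iff_isZero_homology n).1 ((exactAt_iff_forall n m hm).2 fun z hz => ?_)
  have hu : IsUnit s := not_not.1 hs
  obtain ⟨v, hv⟩ := hu.exists_left_inv
  refine ⟨v • r z, ?_⟩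
  have e := LinearMap.congr_fun hrt z
  simp only [LinearMap.add_apply, LinearMap.comp_apply, LinearMap.smul_apply, LinearMap.id_apply] at e
  rw [(isCyc_iff hp z).1 hz, map_zero, add_zero] at e
  rw [map_smul, e, smul_smul, hv, one_smul]

end Groth.Agent.DRing.PointHom
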