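import Groth.Agent.DRing.PointHom.RGamma
import Groth.Agent.KFlat.ExtZero
import Groth.Agent.InjMod.HomRestr

/-!
# The point sheaf and restriction to an open neighbourhood
-/

set_option autoImplicit false

universe u

open CategoryTheory CategoryTheory.Limits AlgebraicGeometry Opposite TopologicalSpace IsLocalRing
open Groth.Agent.PullStalk.Sky Groth.Agent.KFlat.StalkTensor Groth.Agent.InjMod

attribute [local instance] HasDerivedCategory.standard

namespace Groth.Agent.DRing.PointHom

variable {X : Scheme.{u}} (V : X.Opens)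

/-- The stalk of a restriction, as a group isomorphism. -/
noncomputable def restrStalk (M : X.Modules) (y : (V : Scheme.{u})) :
    (M.restrict V.ι).presheaf.stalk y ≃+ M.presheaf.stalk (V.ι y) :=
  ((Scheme.Modules.restrictStalkNatIso V.ι y).app M).addCommGroupIsoToAddEquiv

theorem restrStalk_germ (M : X.Modules) (y : (V : Scheme.{u})) (W : (V : Scheme.{u}).Opens) (hy : y ∈ W)
    (hy' : V.ι y ∈ V.ι ''ᵁ W) (m : Γ(M.restrict V.ι, W)) :
    restrStalk V M y (germM (M.restrict V.ι) W y hy m) = germM M (V.ι ''ᵁ W) (V.ι y) hy' m :=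
  ConcreteCategory.congr_hom (Scheme.Modules.germ_restrictStalkNatIso_hom_app (U := W) V.ι y M hy) m

variable (z : (V : Scheme.{u}))

/-- The point sheaf restricted to a neighbourhood. -/
noncomputable abbrev restrPoint : (V : Scheme.{u}).Modules := (pointMod (V.ι z)).restrict V.ι

theorem stalk_pointMod_eq_zero {x : X} (hx : IsClosed ({x} : Set X)) {y : X} (hy : y ≠ x)
    (t : (pointMod x).presheaf.stalk y) : t = 0 :=
  ((ConcreteCategory.isIso_iff_bijective ((DerSch.stalkFunctor X y).map (nonempty_iso x).some.hom)).1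
    inferInstance).1 ((stalk_sky_eq_zero hx _ hy _).trans (map_zero _).symm)

theorem stalk_restrPoint_eq_zero (hx : IsClosed ({V.ι z} : Set X)) {y : (V : Scheme.{u})} (hy : y ≠ z)
    (t : (restrPoint V z).presheaf.stalk y) : t = 0 :=
  (restrStalk V (pointMod (V.ι z)) y).injective ((stalk_pointMod_eq_zero hx
    (fun e => hy (V.ι.isOpenEmbedding.injective e)) _).trans (map_zero _).symm)

theorem smul_restrPoint_eq_zero (r : (V : Scheme.{u}).presheaf.stalk z) (hr : ¬ IsUnit r)
    (t : (restrPoint V z).presheaf.stalk z) : r • t = 0 := by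
  obtain ⟨W₁, hW₁, a, rfl⟩ := (V : Scheme.{u}).presheaf.exists_germ_eq (x := z) r
  obtain ⟨W₂, hW₂, m, rfl⟩ := exists_germM_eq (restrPoint V z) z t
  let W := W₁ ⊓ W₂
  let a' := (V : Scheme.{u}).presheaf.map (homOfLE (inf_le_left : W ≤ W₁)).op a
  let m' := (restrPoint V z).presheaf.map (homOfLE (inf_le_right : W ≤ W₂)).op m
  have hzW : z ∈ W := ⟨hW₁, hW₂⟩
  have ha : (V : Scheme.{u}).presheaf.germ W z hzW a' = (V : Scheme.{u}).presheaf.germ W₁ z hW₁ a :=
    (V : Scheme.{u}).presheaf.germ_res_apply _ z hzW a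
  rw [← ha] at hr ⊢
  rw [show germM (restrPoint V z) W₂ z hW₂ m = germM (restrPoint V z) W z hzW m' from
    ((restrPoint V z).presheaf.germ_res_apply _ z hzW m).symm, ← germM_smul]
  refine (restrStalk V (pointMod (V.ι z)) z).injective ?_
  have hzV : V.ι z ∈ V.ι ''ᵁ W := ⟨z, hzW, rfl⟩
  refine (restrStalk_germ V _ z W hzW hzV _).trans ?_
  rw [map_zero]
  let b : Γ(X, V.ι ''ᵁ W) := (V.ι.appIso W).inv a'
  show germM (pointMod (V.ι z)) (V.ι ''ᵁ W) (V.ι z) hzV (b • (show Γ(pointMod (V.ι z), V.ι ''ᵁ W) from m')) = 0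
  rw [germM_smul]
  have hb : ¬ IsUnit (X.presheaf.germ (V.ι ''ᵁ W) (V.ι z) hzV b) := by
    rw [← X.mem_basicOpen _ _ hzV]
    intro hz
    refine hr (((V : Scheme.{u}).mem_basicOpen a' _ hzW).1 (Scheme.Opens.mem_basicOpen_toScheme.2 ?_))
    have e : b = a' := by simp only [b, Scheme.Opens.ι_appIso]; rfl
    exact e ▸ hz
  obtain ⟨r', hr'⟩ := span_gen (V.ι z) (germM (pointMod (V.ι z)) (V.ι ''ᵁ W) (V.ι z) hzV
    (show Γ(pointMod (V.ι z), V.ι ''ᵁ W) from m'))
  rw [← hr', smul_comm, kill_gen _ hb, smul_zero]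

theorem exists_retract :
    ∃ (i : kappa z ⟶ (DerSch.stalkFunctor (V : Scheme.{u}) z).obj (restrPoint V z))
      (p : (DerSch.stalkFunctor (V : Scheme.{u}) z).obj (restrPoint V z) ⟶ kappa z), i ≫ p = 𝟙 _ := by
  let O := (V : Scheme.{u}).presheaf.stalk z
  let N := (DerSch.stalkFunctor (V : Scheme.{u}) z).obj (restrPoint V z)
  let v : N := (restrStalk V (pointMod (V.ι z)) z).symm (gen (V.ι z))
  have hv : v ≠ 0 := fun e => gen_ne_zero (V.ι z) (by
    have := congrArg (restrStalk V (pointMod (V.ι z)) z) e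
    exact ((AddEquiv.apply_symm_apply _ _).symm.trans this).trans (map_zero _))
  have htor : Module.IsTorsionBySet O N (maximalIdeal O : Set O) := fun t r => smul_restrPoint_eq_zero V z r r.2 t
  letI : Module (ResidueField O) N := htor.module
  haveI : IsScalarTower O (ResidueField O) N := htor.isScalarTower
  obtain ⟨f, hf⟩ := Module.Projective.exists_dual_ne_zero (ResidueField O) hv
  refine ⟨ModuleCat.ofHom ((LinearMap.toSpanSingleton (ResidueField O) N v).restrictScalars O),
    ModuleCat.ofHom (((f v)⁻¹ • f).restrictScalars O), ModuleCat.hom_ext (LinearMap.ext fun c => ?_)⟩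
  show (f v)⁻¹ • f (c • v) = c
  rw [map_smul, smul_eq_mul, smul_eq_mul]
  field_simp

variable [PreservesFiniteLimits (CxOX.extZero V.ι)]

/-- Orthogonality to the point sheaf is seen on a neighbourhood. -/
theorem noHom_restrict (hx : IsClosed ({V.ι z} : Set X)) (G : CochainComplex X.Modules ℤ) (i : ℤ)
    (h : ∀ φ : DCoh.toD X G ⟶ (shiftFunctor (DCoh.D X) i).obj (DCoh.inD X (pointMod (V.ι z))), φ = 0) :
    NoHom ((stalkD z).obj (DCoh.toD _ ((DCoh.restrictCx V).obj G)))
      (((DerivedCategory.singleFunctor _ 0).obj (kappa z))⟦i⟧) := by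
  have hX := (noHom_pointMod_iff (V.ι z) (DCoh.toD X G) i).1 h
  let F := DerSch.stalkFunctor X (V.ι z)
  -- the counit is invertible at the point
  haveI hc : ∀ n, IsIso (F.map ((CxOX.extZeroAdj V.ι).counit.app (G.X n))) := fun n => by
    let ε := (CxOX.extZeroAdj V.ι).counit.app (G.X n)
    haveI hR : IsIso ((Scheme.Modules.restrictFunctor V.ι).map ε) :=
      IsIso.of_isIso_fac_left ((CxOX.extZeroAdj V.ι).right_triangle_components (G.X n))
    let nat := Scheme.Modules.restrictStalkNatIso V.ι z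
    haveI : IsIso ((Scheme.Modules.toPresheaf X ⋙ TopCat.Presheaf.stalkFunctor _ (V.ι z)).map ε) :=
      (NatIso.isIso_map_iff nat ε).1 (inferInstanceAs (IsIso
        ((Scheme.Modules.toPresheaf _ ⋙ TopCat.Presheaf.stalkFunctor _ z).map
          ((Scheme.Modules.restrictFunctor V.ι).map ε))))
    rw [ConcreteCategory.isIso_iff_bijective]
    exact (ConcreteCategory.isIso_iff_bijective
      ((Scheme.Modules.toPresheaf X ⋙ TopCat.Presheaf.stalkFunctor _ (V.ι z)).map ε)).1 inferInstance
  let jG := ((CxOX.extZero V.ι).mapHomologicalComplex (ComplexShape.up ℤ)).obj ((DCoh.restrictCx V).obj G)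
  let c : jG ⟶ G :=
    { f := fun n => (CxOX.extZeroAdj V.ι).counit.app (G.X n)
      comm' := fun a b _ => ((CxOX.extZeroAdj V.ι).counit.naturality (G.d a b)).symm }
  haveI : ∀ n, IsIso (((F.mapHomologicalComplex (ComplexShape.up ℤ)).map c).f n) := hc
  haveI : IsIso ((F.mapHomologicalComplex (ComplexShape.up ℤ)).map c) :=
    HomologicalComplex.Hom.isIso_of_components _
  let eS : (stalkD (V.ι z)).obj (DCoh.toD X G) ≅
      (stalkD (V.ι z)).obj ((CxOX.extZeroD V.ι).obj (DCoh.toD _ ((DCoh.restrictCx V).obj G))) :=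
    F.mapDerivedCategoryFactors.app G ≪≫
      (DerivedCategory.Q.mapIso (asIso ((F.mapHomologicalComplex (ComplexShape.up ℤ)).map c))).symm ≪≫
      (F.mapDerivedCategoryFactors.app jG).symm ≪≫
      (stalkD (V.ι z)).mapIso ((CxOX.extZero V.ι).mapDerivedCategoryFactors.app _).symm
  have h1 := (noHom_pointMod_iff (V.ι z)
    ((CxOX.extZeroD V.ι).obj (DCoh.toD _ ((DCoh.restrictCx V).obj G))) i).2 (hX.of_iso_left eS)
  have h2 : ∀ φ : DCoh.toD (V : Scheme.{u}) ((DCoh.restrictCx V).obj G) ⟶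
      (shiftFunctor (DCoh.D (V : Scheme.{u})) i).obj (DCoh.inD _ (restrPoint V z)), φ = 0 := by
    intro φ
    let e : (DCoh.restrictD V.ι).obj ((shiftFunctor (DCoh.D X) i).obj (DCoh.inD X (pointMod (V.ι z)))) ≅
        (shiftFunctor (DCoh.D (V : Scheme.{u})) i).obj (DCoh.inD _ (restrPoint V z)) :=
      ((Scheme.Modules.restrictFunctor V.ι).mapDerivedCategory.commShiftIso i).app _ ≪≫
        (shiftFunctor _ i).mapIso (((Scheme.Modules.restrictFunctor V.ι).mapDerivedCategorySingleFunctor 0).app _)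
    let E := ((KFlat.ExtZero.extZeroDAdj V).homEquiv (DCoh.toD _ ((DCoh.restrictCx V).obj G)) _).trans e.homToEquiv
    obtain ⟨ψ, rfl⟩ := E.surjective φ
    obtain ⟨ψ₀, hψ₀⟩ := E.surjective 0
    rw [← hψ₀, h1 ψ, h1 ψ₀]
  obtain ⟨a, p, hap⟩ := exists_retract V z
  have hz : IsClosed ({z} : Set (V : Scheme.{u})) := by
    convert hx.preimage V.ι.continuous using 1
    exact (Set.preimage_image_eq {z} V.ι.isOpenEmbedding.injective).symm.trans (by rw [Set.image_singleton])
  have hu := isIso_unit_of_support hz (restrPoint V z) (fun y hy t => stalk_restrPoint_eq_zero V z hx hy t)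
  have h3 := (hom_zero_iff (stalkSkyAdj z) _ (@asIso _ _ _ _ _ hu) i).1 h2
  intro ψ
  have := h3 (ψ ≫ ((DerivedCategory.singleFunctor _ 0).map a)⟦i⟧')
  have h4 := congrArg (fun q => q ≫ ((DerivedCategory.singleFunctor _ 0).map p)⟦i⟧') this
  rw [zero_comp, Category.assoc, ← Functor.map_comp, ← Functor.map_comp, hap, CategoryTheory.Functor.map_id,
    CategoryTheory.Functor.map_id, Category.comp_id] at h4
  exact h4

end Groth.Agent.DRing.PointHom
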