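import Groth.Agent.DRing.PointHom.DualAlg
import Groth.Agent.DRing.PointHom.Restrict
import Groth.Agent.KFlat.RHomLocal
import Groth.Agent.KFlat.Closure
import Groth.Agent.AmpCrit.AffineHom
import Groth.Agent.PerfTri.Bounded
import Mathlib.CategoryTheory.Monoidal.Category

/-!
# The dual of a perfect complex near a closed point
-/

set_option autoImplicit false

universe u

open CategoryTheory CategoryTheory.Limits AlgebraicGeometry Opposite TopologicalSpace IsLocalRing
open MonoidalCategory
open Groth.Agent.PullStalk.Sky Groth.Agent.KFlat.StalkTensor Groth.Agent.KFlat.DualCells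
open Groth.Agent.KFlat.DualAdj

attribute [local instance] HasDerivedCategory.standard

namespace Groth.Agent.DRing.PointHom

section Stalk

variable {X : Scheme.{u}} (x : X)

theorem exists_unitStalkEquiv :
    Nonempty ((DerSch.stalkFunctor X x).obj (Coh.structureModule X) ≃ₗ[X.presheaf.stalk x] X.presheaf.stalk x) := by
  let M := Coh.structureModule X
  let one : M.presheaf.stalk x := germM M ⊤ x trivial (show Γ(M, (⊤ : X.Opens)) from (1 : Γ(X, (⊤ : X.Opens))))
  let φ := LinearMap.toSpanSingleton (X.presheaf.stalk x) ((DerSch.stalkFunctor X x).obj M) one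
  have key : ∀ (W : X.Opens) (hW : x ∈ W) (a : Γ(X, W)),
      X.presheaf.germ W x hW a • one = germM M W x hW (show Γ(M, W) from a) := fun W hW a => by
    have h1 : one = germM M W x hW (show Γ(M, W) from (1 : Γ(X, W))) := by
      refine (M.presheaf.germ_res_apply (homOfLE (le_top : W ≤ ⊤)) x hW _).symm.trans ?_
      exact congrArg (M.presheaf.germ W x hW) (map_one (X.presheaf.map (homOfLE (le_top : W ≤ ⊤)).op).hom)
    rw [h1, ← germM_smul]
    exact congrArg (M.presheaf.germ W x hW) (mul_one a)
  refine ⟨(LinearEquiv.ofBijective φ ⟨?_, fun t => ?_⟩).symm⟩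
  · rw [injective_iff_map_eq_zero]
    intro r hr
    obtain ⟨W, hW, a, rfl⟩ := X.presheaf.exists_germ_eq (x := x) r
    have h0 := ((key W hW a).symm.trans hr).trans (map_zero (M.presheaf.germ W x hW).hom).symm
    obtain ⟨W', hW', i₁, i₂, e⟩ := M.presheaf.germ_eq x hW hW _ _ h0
    have e' : X.presheaf.map i₁.op a = 0 := e.trans (map_zero _)
    rw [← X.presheaf.germ_res_apply i₁ x hW' a, e', map_zero]
  · obtain ⟨W, hW, m, rfl⟩ := exists_germM_eq M x t
    exact ⟨X.presheaf.germ W x hW (show Γ(X, W) from m), key W hW _⟩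

variable {M : X.Modules} {k : ℕ} (c : Cells (Coh.structureModule X) M k)
  (ε : (DerSch.stalkFunctor X x).obj (Coh.structureModule X) ≃ₗ[X.presheaf.stalk x] X.presheaf.stalk x)

/-- The basis of a stalk given by bases of the module. -/
noncomputable def cellBasis : Module.Basis (Fin k) (X.presheaf.stalk x) ((DerSch.stalkFunctor X x).obj M) :=
  Module.Basis.ofEquivFun
    { toFun := fun v a => ε (((DerSch.stalkFunctor X x).map (c.p a)).hom v)
      map_add' := fun v w => funext fun a => by simp only [Pi.add_apply, map_add]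
      map_smul' := fun r v => funext fun a => by simp only [Pi.smul_apply, map_smul, RingHom.id_apply]
      invFun := fun f => ∑ a, ((DerSch.stalkFunctor X x).map (c.i a)).hom (ε.symm (f a))
      left_inv := fun v => by
        have h := congrArg (fun q => ((DerSch.stalkFunctor X x).map q).hom v) c.total
        simp only [Functor.map_sum, Functor.map_comp, CategoryTheory.Functor.map_id, ModuleCat.hom_sum,
          LinearMap.sum_apply] at h
        refine Eq.trans ?_ h
        exact Finset.sum_congr rfl fun a _ => congrArg _ (ε.symm_apply_apply _)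
      right_inv := fun f => funext fun b => by
        show ε (((DerSch.stalkFunctor X x).map (c.p b)).hom
          (∑ a, ((DerSch.stalkFunctor X x).map (c.i a)).hom (ε.symm (f a)))) = f b
        rw [map_sum, map_sum]
        have h : ∀ a, ε (((DerSch.stalkFunctor X x).map (c.p b)).hom
            (((DerSch.stalkFunctor X x).map (c.i a)).hom (ε.symm (f a)))) = if a = b then f a else 0 := fun a => by
          have h1 := congrArg (fun q => ε (((DerSch.stalkFunctor X x).map q).hom (ε.symm (f a)))) (c.ip a b)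
          simp only [Functor.map_comp] at h1
          refine h1.trans ?_
          split
          · rw [CategoryTheory.Functor.map_id]; exact ε.apply_symm_apply _
          · rw [Functor.map_zero]; exact map_zero ε
        rw [Finset.sum_congr rfl fun a _ => h a, Finset.sum_ite_eq' Finset.univ b f, if_pos (Finset.mem_univ _)] }

theorem cellBasis_repr (v : (DerSch.stalkFunctor X x).obj M) (a : Fin k) :
    (cellBasis x c ε).repr v a = ε (((DerSch.stalkFunctor X x).map (c.p a)).hom v) := rfl

theorem cellBasis_apply (a : Fin k) :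
    cellBasis x c ε a = ((DerSch.stalkFunctor X x).map (c.i a)).hom (ε.symm 1) := by
  rw [cellBasis, Module.Basis.coe_ofEquivFun]
  show ∑ b, ((DerSch.stalkFunctor X x).map (c.i b)).hom
    (ε.symm ((Pi.single a 1 : Fin k → X.presheaf.stalk x) b)) = _
  rw [Finset.sum_eq_single a (fun b _ hb => by rw [Pi.single_eq_of_ne hb, map_zero, map_zero])
    (fun h => absurd (Finset.mem_univ a) h), Pi.single_eq_same]

theorem repr_map {N : X.Modules} {l : ℕ} (c' : Cells (Coh.structureModule X) N l) (d : M ⟶ N) (a : Fin k)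
    (b : Fin l) :
    (cellBasis x c' ε).repr (((DerSch.stalkFunctor X x).map d).hom (cellBasis x c ε a)) b =
      ε (((DerSch.stalkFunctor X x).map (c.i a ≫ d ≫ c'.p b)).hom (ε.symm 1)) := by
  rw [cellBasis_repr, cellBasis_apply, Functor.map_comp, Functor.map_comp]
  rfl

end Stalk

variable {X : Scheme.{u}}

/-- `N ⊗ O ≅ N`, naturally. -/
noncomputable def tensorUnitNatIso : DCoh.tensorRightMod (Coh.structureModule X) ≅ 𝟭 X.Modules :=
  (KFlat.tensorBiFlipIso X.sheaf).app (Coh.structureModule X) ≪≫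
    (Functor.isoWhiskerLeft (ModSite.toPre X.sheaf) (Functor.isoWhiskerRight
      (leftUnitorNatIso _) (ModSite.shPre X.sheaf)) ≪≫
        @asIso _ _ _ _ _ (KFlat.isIso_preAdj_counit X.sheaf))

theorem nonempty_LTensorCx_unit (E : CochainComplex X.Modules ℤ) [DCoh.HasLTensorCx E] (hE : DCoh.IsKFlat E) :
    Nonempty ((DCoh.LTensorCx E).obj (DCoh.inD X (Coh.structureModule X)) ≅ DCoh.toD X E) := by
  let S := (CochainComplex.singleFunctor X.Modules 0).obj (Coh.structureModule X)
  have := KFlat.LTensor.isIso_toTensor_of_kflat E hE S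
  exact ⟨(DCoh.LTensorCx E).mapIso ((DerivedCategory.singleFunctorIsoCompQ X.Modules 0).app _) ≪≫
    asIso ((KFlat.LTensor.toTensor E).app S) ≪≫
    DerivedCategory.Q.mapIso (((KFlat.tensFlipIso X.sheaf).symm.app S).app E ≪≫
      (KFlat.totSingleCxIso (DCoh.tensorBi (X := X)) (Coh.structureModule X)).symm.app E ≪≫
      (NatIso.mapHomologicalComplex tensorUnitNatIso (ComplexShape.up ℤ) ≪≫
        Functor.mapHomologicalComplexIdIso X.Modules (ComplexShape.up ℤ)).app E)⟩

/-- The stalk of the dual vanishes in degree `i` without morphisms to the residue field in degree `i`. -/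
theorem isZero_stalk_dual (z : X) {E E' : CochainComplex X.Modules ℤ}
    (P : StrictPair (Coh.structureModule X) E E') (i : ℤ)
    (h : NoHom (DRing.toD (((DerSch.stalkFunctor X z).mapHomologicalComplex (ComplexShape.up ℤ)).obj E))
      (((DerivedCategory.singleFunctor _ 0).obj (kappa z))⟦i⟧)) :
    z ∉ CohB1.support (DCoh.HD (DCoh.toD X E') i) := by
  classical
  let O := X.presheaf.stalk z
  let F := DerSch.stalkFunctor X z
  obtain ⟨ε⟩ := exists_unitStalkEquiv z
  let L : DRing.Cx O := (F.mapHomologicalComplex (ComplexShape.up ℤ)).obj E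
  let L' : DRing.Cx O := (F.mapHomologicalComplex (ComplexShape.up ℤ)).obj E'
  let b := fun n => cellBasis z (P.c n) ε
  let b' := fun n m (hh : m + n = 0) => cellBasis z (P.c' n m hh) ε
  obtain ⟨top, htop⟩ := P.s.bddAbove
  haveI : L.IsKProjective := DBasic.isKProjective_of_projective L top (fun n hn => by
      have : IsEmpty (Fin (P.k n)) := by
        rw [P.hs n fun hm => absurd (htop hm) (not_le.2 hn)]; infer_instance
      exact @ModuleCat.isZero_of_subsingleton _ _ _ (b n).repr.toEquiv.subsingleton)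
    fun n => Module.Projective.of_basis (b n)
  obtain ⟨n, hn⟩ : ∃ n, n = -i := ⟨_, rfl⟩
  have h' : NoHom (DRing.toD L) (((DerivedCategory.singleFunctor (ModuleCat.{u} O) 0).obj
      (ModuleCat.of O (ResidueField O)))⟦-n⟧) := by rw [hn, neg_neg]; exact h
  let cst : ℤ → O := fun j => ((j : ℤ) : O)
  have tr : ∀ (p q : ℤ) (φ ψ : Coh.structureModule X ⟶ Coh.structureModule X), p • φ = q • ψ → p * p = 1 →
      ε ((F.map φ).hom (ε.symm 1)) = ((p * q : ℤ) : O) * ε ((F.map ψ).hom (ε.symm 1)) := by
    intro p q φ ψ hpq hp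
    have h1 : φ = (p * q) • ψ := by rw [mul_smul, ← hpq, smul_smul, hp, one_smul]
    conv_lhs => rw [h1, Functor.map_zsmul, ModuleCat.hom_zsmul, LinearMap.smul_apply, map_zsmul]
    rw [zsmul_eq_mul]
  have hunit : ∀ p : ℤ, p * p = 1 → IsUnit (p : O) := fun p hp =>
    .of_mul_eq_one (p : O) (by rw [← Int.cast_mul, hp, Int.cast_one])
  have hsq : ∀ p q r : ℤ, p * p = 1 → r * r = 1 → q * q = 1 → (p * (q * r)) * (p * (q * r)) = 1 := by
    intro p q r hp hr hq
    calc _ = (p * p) * (q * q) * (r * r) := by ring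
      _ = 1 := by rw [hp, hq, hr]; norm_num
  have hsgn : ∀ j : ℤ, ((j.negOnePow : ℤ)) * (j.negOnePow : ℤ) = 1 := fun j => by
    rw [← Units.val_mul, Int.units_mul_self, Units.val_one]
  refine (isZero_stalkD_iff z (DCoh.toD X E') i).1 ?_
  refine IsZero.of_iso ?_ ((DBasic.HF i).mapIso (F.mapDerivedCategoryFactors.app E') ≪≫ DBasic.hIso L' i)
  have hfin : Module.Finite O (L'.X i) := Module.Finite.of_basis (b' n i (by omega))
  have hp1 : Module.Projective O (L'.X i) := Module.Projective.of_basis (b' n i (by omega))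
  have hp2 : Module.Projective O (L'.X (i + 1)) := Module.Projective.of_basis (b' (n - 1) (i + 1) (by omega))
  refine isZero_homology_of_fibre L' (i - 1) i (i + 1) (by omega) rfl fun x hx => ?_
  refine exists_sub_mem_of_transpose (b (n - 1)) (b n) (b (n + 1)) (b' (n - 1) (i + 1) (by omega))
    (b' n i (by omega)) (b' (n + 1) (i - 1) (by omega)) (L.d (n - 1) n).hom (L.d n (n + 1)).hom
    (L'.d (i - 1) i).hom (L'.d i (i + 1)).hom
    (hunit _ (hsq _ _ _ (P.ha (n - 1)) (P.ha n) (hsgn (n - 1))))
    (hunit _ (hsq _ _ _ (P.ha n) (P.ha (n + 1)) (hsgn n)))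
    (fun a c => ?_) (fun c a => ?_)
    (fun g hg => exists_factor_of_noHom L (n - 1) n (n + 1) (by omega) rfl h' g hg) x hx
  · refine (repr_map z _ ε _ (E'.d i (i + 1)) c a).trans (Eq.trans ?_
      (congrArg (_ * ·) (repr_map z _ ε _ (E.d (n - 1) n) a c).symm))
    exact tr _ _ _ _ (P.compat (n - 1) n (i + 1) i (by omega) (by omega) (by omega) a c) (P.ha _)
  · refine (repr_map z _ ε _ (E'.d (i - 1) i) a c).trans (Eq.trans ?_
      (congrArg (_ * ·) (repr_map z _ ε _ (E.d n (n + 1)) c a).symm))
    exact tr _ _ _ _ (P.compat n (n + 1) i (i - 1) (by omega) (by omega) rfl c a) (P.ha _)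

/-- Vanishing of the dual near a closed point. -/
theorem exists_open_dual [IsNoetherian X] (x : X) (hx : IsClosed ({x} : Set X))
    (E : CochainComplex X.Modules ℤ) (hK : DCoh.IsPerfect (DCoh.toD X E))
    [DCoh.HasLTensorCx E] [DCoh.HasRSheafHom E] (i : ℤ)
    (h : ∀ φ : DCoh.toD X E ⟶ (shiftFunctor (DCoh.D X) i).obj (DCoh.inD X (pointMod x)), φ = 0) :
    ∃ U : X.Opens, x ∈ U ∧ ∀ y : X, y ∈ U →
      y ∉ CohB1.support (DCoh.HD ((DCoh.RSheafHom E).obj (DCoh.inD X (Coh.structureModule X))) i) := by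
  obtain ⟨V, hxV, -, E₁, E', P, hLT, -, e, ⟨w⟩⟩ := KFlat.RHomLocal.exists_local E hK x ⊤ trivial
  haveI := hLT
  let z : (V : Scheme.{u}) := ⟨x, hxV⟩
  have hz := isZero_stalk_dual z P i ((noHom_restrict V z hx E i h).of_iso_left
    ((stalkD z).mapIso e ≪≫ (DerSch.stalkFunctor (V : Scheme.{u}) z).mapDerivedCategoryFactors.app E₁))
  let G := (DCoh.RSheafHom E).obj (DCoh.inD X (Coh.structureModule X))
  obtain ⟨u⟩ := nonempty_LTensorCx_unit E' (KFlat.StrictDual.isKFlat_right P)
  let eG : (Scheme.Modules.restrictFunctor V.ι).obj (DCoh.HD G i) ≅ DCoh.HD (DCoh.toD (V : Scheme.{u}) E') i :=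
    ((KFlat.MapHomology.iso (Scheme.Modules.restrictFunctor V.ι) i).app G).symm ≪≫
      (DerivedCategory.homologyFunctor _ i).mapIso (w.app _ ≪≫
        (DCoh.LTensorCx E').mapIso (((Scheme.Modules.restrictFunctor V.ι).mapDerivedCategorySingleFunctor 0).app _ ≪≫
          (DerivedCategory.singleFunctor _ 0).mapIso (AmpCrit.restrictUnitIso V.ι)) ≪≫ u)
  haveI : IsLocallyNoetherian (V : Scheme.{u}) := LocallyOfFiniteType.isLocallyNoetherian V.ι
  have hcoh : Coh.IsCoh (E'.homology i) := PerfTri.Bounded.isCoh_homology E'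
    (fun j => PerfTri.Bounded.isCoh_of_isFinLocFree ((KFlat.StrictDual.isStrictlyPerfect_right P).2 j)) i
  let S := CohB1.support (E'.homology i)
  have hsupp : ∀ y : (V : Scheme.{u}), y ∉ S → V.ι y ∉ CohB1.support (DCoh.HD G i) := by
    intro y hy hG
    apply hG
    let e₁ := (DerSch.stalkFunctor (V : Scheme.{u}) y).mapIso (eG ≪≫ (DerivedCategory.homologyFunctorFactors _ i).app E')
    exact @Equiv.subsingleton _ _ (restrStalk V (DCoh.HD G i) y).symm.toEquiv
      (@Equiv.subsingleton _ _ e₁.toLinearEquiv.toEquiv (not_not.1 hy))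
  refine ⟨V.ι ''ᵁ ⟨Sᶜ, (CohDev.isClosed_support hcoh).isOpen_compl⟩, ⟨z, fun hzS => hzS ?_, rfl⟩, ?_⟩
  · exact @Equiv.subsingleton _ _ ((((DerSch.stalkFunctor (V : Scheme.{u}) z).mapIso
      ((DerivedCategory.homologyFunctorFactors _ i).app E')).symm.toLinearEquiv).toEquiv) (not_not.1 hz)
  · rintro _ ⟨y, hy, rfl⟩
    exact hsupp y hy

end Groth.Agent.DRing.PointHom
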