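import Groth.Agent.DRing.PointHom.Fibre
import Groth.Agent.DRing.KoszulLift.Fibre
import Mathlib.Algebra.Homology.DerivedCategory.ShortExact
import Mathlib.RingTheory.Regular.Flat

/-!
# Morphisms from the residue field to a perfect object of a regular local ring
-/

set_option autoImplicit false

universe u

open CategoryTheory CategoryTheory.Limits DerivedCategory IsLocalRing Pretriangulated
open scoped Pointwise

attribute [local instance] HasDerivedCategory.standard

namespace Groth.Agent.DRing.PointHom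

open DBasic Homology

variable {O : Type u} [CommRing O]

theorem exists_shift_triangle (f : O) {L C : Dual.D O} {v : L ⟶ C} {w : C ⟶ L⟦(1 : ℤ)⟧}
    (hC : Triangle.mk (f • 𝟙 L) v w ∈ distTriang (Dual.D O)) (i : ℤ) :
    ∃ g : O, (g = f ∨ g = -f) ∧ ∃ (v' : L⟦i⟧ ⟶ C⟦i⟧) (d' : C⟦i⟧ ⟶ L⟦i⟧⟦(1 : ℤ)⟧),
      Triangle.mk (g • 𝟙 (L⟦i⟧)) v' d' ∈ distTriang (Dual.D O) := by
  have hCi := Triangle.shift_distinguished _ hC i
  have h1 : ((Triangle.shiftFunctor (Dual.D O) i).obj (Triangle.mk (f • 𝟙 L) v w)).mor₁ =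
      i.negOnePow • (f • 𝟙 (L⟦i⟧)) := by
    show i.negOnePow • (f • 𝟙 L)⟦i⟧' = _
    rw [Functor.map_smul, CategoryTheory.Functor.map_id]
  rcases Int.units_eq_one_or i.negOnePow with he | he
  · refine ⟨f, Or.inl rfl, ((Triangle.shiftFunctor (Dual.D O) i).obj (Triangle.mk (f • 𝟙 L) v w)).mor₂,
      ((Triangle.shiftFunctor (Dual.D O) i).obj (Triangle.mk (f • 𝟙 L) v w)).mor₃, ?_⟩
    rw [show f • 𝟙 (L⟦i⟧) = i.negOnePow • (f • 𝟙 (L⟦i⟧)) by rw [he, one_smul], ← h1]
    exact hCi
  · refine ⟨-f, Or.inr rfl, ((Triangle.shiftFunctor (Dual.D O) i).obj (Triangle.mk (f • 𝟙 L) v w)).mor₂,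
      ((Triangle.shiftFunctor (Dual.D O) i).obj (Triangle.mk (f • 𝟙 L) v w)).mor₃, ?_⟩
    rw [show (-f) • 𝟙 (L⟦i⟧) = i.negOnePow • (f • 𝟙 (L⟦i⟧)) by rw [he, Units.neg_smul, one_smul, neg_smul], ← h1]
    exact hCi

/-- Orthogonality to a Koszul complex makes cycles modulo the sequence boundaries. -/
theorem exists_decomp : ∀ (l : List O) (F : DRing.Cx O),
    (∀ j, RingTheory.Sequence.IsWeaklyRegular (F.X j) l) → ∀ i n : ℤ, n + l.length = i →
    NoHom (DRing.toD (Koszul.koszul O l)) ((DRing.toD F)⟦i⟧) →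
    ∀ x : F.X n, (F.d n (n + 1)).hom x ∈ Ideal.ofList l • (⊤ : Submodule O (F.X (n + 1))) →
      ∃ y : F.X (n - 1), x - (F.d (n - 1) n).hom y ∈ Ideal.ofList l • (⊤ : Submodule O (F.X n))
  | [], F, _, i, n, hn, h, x, hx => by
    obtain rfl : n = i := by simpa using hn
    have hz : IsZero (F.homology n) := (isZero_of_noHom_free (DRing.toD F) n h).of_iso (hIso F n).symm
    rw [Ideal.ofList_nil, Submodule.bot_smul, Submodule.mem_bot] at hx
    obtain ⟨y, hy⟩ := (exactAt_iff_forall n (n - 1) (by omega)).1 ((F.exactAt_iff_isZero_homology n).2 hz) x hx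
    exact ⟨y, by rw [hy, sub_self]; exact zero_mem _⟩
  | f :: l, F, hreg, i, n, hn, h, x, hx => by
    have hr := fun j => (RingTheory.Sequence.isWeaklyRegular_cons_iff (F.X j) f l).1 (hreg j)
    have hcomap : ∀ j k, (f • ⊤ : Submodule O (F.X j)) ≤ (f • ⊤ : Submodule O (F.X k)).comap (F.d j k).hom := by
      intro j k y hy
      obtain ⟨z, -, rfl⟩ := (Submodule.mem_smul_pointwise_iff_exists _ _ _).1 hy
      rw [Submodule.mem_comap, map_smul]
      exact Submodule.smul_mem_pointwise_smul _ _ _ trivial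
    let G : DRing.Cx O :=
      { X := fun j => ModuleCat.of O (QuotSMulTop f (F.X j))
        d := fun j k => ModuleCat.ofHom (Submodule.mapQ _ _ (F.d j k).hom (hcomap j k))
        shape := fun j k hjk => ModuleCat.hom_ext (Submodule.linearMap_qext _ (LinearMap.ext fun z => by
          show Submodule.Quotient.mk ((F.d j k).hom z) = 0
          rw [F.shape _ _ hjk]; rfl))
        d_comp_d' := fun j k m _ _ => ModuleCat.hom_ext (Submodule.linearMap_qext _ (LinearMap.ext fun z => by
          show Submodule.Quotient.mk ((F.d k m).hom ((F.d j k).hom z)) = 0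
          rw [d_d]; rfl)) }
    let q : F ⟶ G :=
      { f := fun j => ModuleCat.ofHom (Submodule.mkQ _)
        comm' := fun j k _ => ModuleCat.hom_ext (LinearMap.ext fun z => rfl) }
    let S : ShortComplex (DRing.Cx O) := ShortComplex.mk (f • 𝟙 F) q
      (HomologicalComplex.hom_ext _ _ fun j => ModuleCat.hom_ext (LinearMap.ext fun z =>
        (Submodule.Quotient.mk_eq_zero _).2 (Submodule.smul_mem_pointwise_smul z f ⊤ trivial)))
    have hS : S.ShortExact := HomologicalComplex.shortExact_of_degreewise_shortExact _ fun j =>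
      { exact := (ShortComplex.moduleCat_exact_iff _).2 fun z hz => by
          obtain ⟨w, -, hw⟩ := (Submodule.mem_smul_pointwise_iff_exists _ _ _).1
            ((Submodule.Quotient.mk_eq_zero _).1 hz)
          exact ⟨w, hw⟩
        mono_f := (ModuleCat.mono_iff_injective _).2 (hr j).1
        epi_g := (ModuleCat.epi_iff_surjective _).2 (Submodule.mkQ_surjective _) }
    have hT1 := triangleOfSES_distinguished hS
    let L := DRing.toD F
    obtain ⟨v, w, hC⟩ : ∃ (v : L ⟶ DRing.toD G) (w : DRing.toD G ⟶ L⟦(1 : ℤ)⟧),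
        Triangle.mk (f • 𝟙 L) v w ∈ distTriang (Dual.D O) := by
      have h2 : Q.map (f • 𝟙 F) = f • 𝟙 L := by rw [Functor.map_smul, CategoryTheory.Functor.map_id]
      refine ⟨(triangleOfSES hS).mor₂, (triangleOfSES hS).mor₃, ?_⟩
      rw [← h2]
      exact hT1
    let K := DRing.toD (Koszul.koszul O l)
    obtain ⟨u', w', hT⟩ : ∃ (u' : K ⟶ DRing.toD (Koszul.koszul O (f :: l))) (w' : _ ⟶ K⟦(1 : ℤ)⟧),
        Triangle.mk (f • 𝟙 K) u' w' ∈ distTriang (Dual.D O) := by
      have h1 := mappingCone_triangle_distinguished (f • 𝟙 (Koszul.koszul O l))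
      have h2 : Q.map (f • 𝟙 (Koszul.koszul O l)) = f • 𝟙 K := by
        rw [Functor.map_smul, CategoryTheory.Functor.map_id]
      refine ⟨(Q.mapTriangle.obj (CochainComplex.mappingCone.triangle (f • 𝟙 (Koszul.koszul O l)))).mor₂,
        (Q.mapTriangle.obj (CochainComplex.mappingCone.triangle (f • 𝟙 (Koszul.koszul O l)))).mor₃, ?_⟩
      rw [← h2]
      exact h1
    obtain ⟨g, hg, v', d', hS'⟩ := exists_shift_triangle f hC (i - 1)
    have h₁ : NoHom (DRing.toD (Koszul.koszul O (f :: l))) (L⟦i - 1⟧⟦(1 : ℤ)⟧) :=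
      (show NoHom (DRing.toD (Koszul.koszul O (f :: l))) (L⟦i - 1 + 1⟧) by rw [sub_add_cancel]; exact h).of_iso
        (shiftAddIso' (i - 1) 1).some.symm
    have hG : NoHom K ((DRing.toD G)⟦i - 1⟧) := fun φ => eq_zero_of_cone f hT hg hS' h₁ φ
    have hmem : (G.d n (n + 1)).hom ((q.f n).hom x) ∈ Ideal.ofList l • (⊤ : Submodule O (G.X (n + 1))) := by
      show Submodule.mkQ _ ((F.d n (n + 1)).hom x) ∈ _
      have hx' := Submodule.mem_map_of_mem (f := Submodule.mkQ (f • ⊤ : Submodule O (F.X (n + 1)))) hx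
      rw [Ideal.ofList_cons, Submodule.sup_smul, Submodule.map_sup, Submodule.ideal_span_singleton_smul,
        Submodule.map_smul'', Submodule.map_top, Submodule.range_mkQ, Submodule.mkQ_map_self, bot_sup_eq] at hx'
      exact hx'
    obtain ⟨yb, hyb⟩ := exists_decomp l G (fun j => (hr j).2) (i - 1) n
      (by simp only [List.length_cons] at hn; push_cast at hn; omega) hG ((q.f n).hom x) hmem
    obtain ⟨y, rfl⟩ := Submodule.mkQ_surjective _ yb
    refine ⟨y, ?_⟩
    change Submodule.mkQ _ x - Submodule.mkQ _ ((F.d (n - 1) n).hom y) ∈ Ideal.ofList l • ⊤ at hyb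
    rw [← map_sub, ← Submodule.mem_comap] at hyb
    have e : Submodule.comap (Submodule.mkQ (f • ⊤ : Submodule O (F.X n))) (Ideal.ofList l • ⊤) =
        Ideal.ofList (f :: l) • (⊤ : Submodule O (F.X n)) := by
      rw [Ideal.ofList_cons, Submodule.sup_smul, Submodule.ideal_span_singleton_smul,
        ← Submodule.comap_map_mkQ, Submodule.map_smul'', Submodule.map_top, Submodule.range_mkQ]
    rw [← e]
    exact hyb

/-- Over a regular local ring of dimension `d`, a perfect object without morphisms from the residue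
field in degree `i` has no cohomology in degree `i - d`. -/
theorem isZero_of_noHom_from_residue_degree [IsRegularLocalRing O] [DRing.HasLBaseChange (residue O)]
    (d : ℕ) (hd : ringKrullDim O = d) {L : Dual.D O} (hL : DRing.IsPerfect O L) (i : ℤ)
    (h : NoHom ((singleFunctor (ModuleCat.{u} O) 0).obj (ModuleCat.of O (ResidueField O))) (L⟦i⟧)) :
    IsZero ((HF (i - d)).obj L) := by
  classical
  obtain ⟨P, hP⟩ := Minimal.exists_minimal L ((Perfect.perfect_iff L).1 hL).1
  obtain ⟨⟨b, hb⟩, hfree, ⟨e⟩⟩ := id hP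
  have hp : ∀ j, Module.Projective O (P.X j) := fun j => have := (hfree j).1; inferInstance
  obtain ⟨t, hc, ht⟩ := Submodule.FG.exists_span_finset_card_eq_spanFinrank (IsNoetherian.noetherian (maximalIdeal O))
  let s := t.toList
  have hs : Ideal.ofList s = maximalIdeal O := by
    rw [Ideal.ofList]
    refine Eq.trans ?_ ht
    congr 1
    ext a
    simp [s]
  have hlen : s.length = d := by
    have h1 := IsRegularLocalRing.spanFinrank_maximalIdeal (R := O)
    rw [hd, ← hc, Nat.cast_inj (R := WithBot ℕ∞)] at h1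
    rw [Finset.length_toList]
    exact h1
  have hcm := Depth.isCohenMacaulayLocalRing_of_isRegularLocalRing (R := O)
  have hreg : ∀ l : List O, Ideal.ofList l = maximalIdeal O → l.length = d → RingTheory.Sequence.IsWeaklyRegular O l :=
    fun l hl hl' => CMSeq.isWeaklyRegular_of_radical l O hcm.supportDim_eq_depth hl.le
      (by rw [hl]; exact Ideal.le_radical.trans (Ideal.radical_mono le_sup_right))
      (by rw [Module.supportDim_self_eq_ringKrullDim, hd, hl'])
  have hr : Ideal.ofList s.reverse = maximalIdeal O := by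
    rw [← hs]; simp [Ideal.ofList, List.mem_reverse]
  have hk : ∀ j : ℤ, j ≠ 0 → IsZero ((Koszul.koszul O s).homology j) :=
    KoszulWiebe.acyclic_of_isWeaklyRegular_reverse s (hreg _ hr (by rw [List.length_reverse, hlen]))
  obtain ⟨π, hπ, hker⟩ := KosCone.Basic.exists_toH0 s
  let S := (CochainComplex.singleFunctor (ModuleCat.{u} O) 0).obj (ModuleCat.of O (ResidueField O))
  have e0 : (Koszul.koszul O s).homology 0 ≅ S.homology 0 :=
    ((Submodule.quotEquivOfEq (maximalIdeal O) (LinearMap.ker π) (hs.symm.trans hker.symm)) ≪≫ₗ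
      LinearMap.quotKerEquivOfSurjective π hπ).toModuleIso.symm ≪≫
      (HomologicalComplex.singleObjHomologySelfIso (ComplexShape.up ℤ) 0 _).symm
  obtain ⟨eK⟩ := KoszulLift.nonempty_iso_of_homology (Y := S) hk (fun j hj =>
    ((S.exactAt_iff_isZero_homology j).1 (HomologicalComplex.exactAt_single_obj _ _ _ _ hj))) e0
  have hF : NoHom (DRing.toD (Koszul.koszul O s)) ((DRing.toD P)⟦i⟧) :=
    (h.of_iso_left ((singleFunctorIsoCompQ (ModuleCat.{u} O) 0).app _ ≪≫ eK.symm)).of_iso
      ((shiftFunctor (Dual.D O) i).mapIso e.symm)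
  have hregP : ∀ j, RingTheory.Sequence.IsWeaklyRegular (P.X j) s := fun j =>
    ((TensorProduct.lid O (P.X j)).isWeaklyRegular_congr s).1
      ((hreg s hs hlen).isWeaklyRegular_rTensor)
  -- minimality
  let L' := (LTensor.extCx (residue O)).obj P
  have hzero : ∀ j, ∀ y : P.X j, (P.d j (j + 1)).hom y ∈ maximalIdeal O • (⊤ : Submodule O (P.X (j + 1))) := by
    intro j y
    haveI := (hfree j).1
    haveI := (hfree j).2.1
    haveI : Module.Finite (ResidueField O) (L'.X j) := Perfect.finite_extendScalars (residue O) (hfree j).2.1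
    have hi := (Minimal.isIso_of_finrank_eq L' j (by
      rw [← (Minimal.nonempty_fibre b hb hp e j).some.finrank_eq, ← (hfree j).2.2]
      exact Minimal.finrank_extendScalars (P.X j))).1
    have hd0 : L'.d j (j + 1) = 0 := by rw [← cancel_epi (L'.iCycles j), comp_zero]; exact L'.iCycles_d _ _
    refine ((KoszulLift.unit_surjective_ker (maximalIdeal O) (P.X (j + 1))).2 _).1 ?_
    let := (residue O).toAlgebra
    show (1 : ResidueField O) ⊗ₜ[O] (P.d j (j + 1)).hom y = 0
    exact LinearMap.congr_fun (congrArg ModuleCat.Hom.hom hd0) ((1 : ResidueField O) ⊗ₜ[O] y)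
  let n := i - (d : ℤ)
  have hall : (⊤ : Submodule O (P.X n)) ≤ maximalIdeal O • ⊤ := fun x _ => by
    obtain ⟨y, hy⟩ := exists_decomp s P hregP i n (by rw [hlen]; omega) hF x (by rw [hs]; exact hzero n x)
    rw [hs] at hy
    have hy' : (P.d (n - 1) n).hom y ∈ maximalIdeal O • (⊤ : Submodule O (P.X n)) := by
      have := hzero (n - 1) y
      generalize hm : n - 1 + 1 = m at this
      obtain rfl : m = n := by omega
      exact this
    simpa using Submodule.add_mem _ hy hy'
  haveI := (hfree n).2.1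
  haveI : Subsingleton (P.X n) := (Submodule.subsingleton_iff O).1 (subsingleton_of_bot_eq_top
      (Submodule.eq_bot_of_le_smul_of_le_jacobson_bot _ ⊤ (Module.Finite.fg_top) hall
        (IsLocalRing.maximalIdeal_le_jacobson _)).symm)
  exact ((ShortComplex.isZero_homology_of_isZero_X₂ _ (ModuleCat.isZero_of_subsingleton (P.X n))).of_iso
    ((HF n).mapIso e.symm ≪≫ hIso P n))

end Groth.Agent.DRing.PointHom
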