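import Groth.Agent.DRing.PointHom.Adj
import Groth.Agent.DRing.Minimal
import Groth.Agent.DRing.RegularPerfect
import Groth.Agent.RegLoc.Homological

/-!
# Perfect objects over regular local rings and their fibres
-/

set_option autoImplicit false

universe u

open CategoryTheory CategoryTheory.Limits AlgebraicGeometry IsLocalRing

attribute [local instance] HasDerivedCategory.standard

namespace Groth.Agent.DRing.PointHom

open DBasic

section Ring

variable {O : Type u} [CommRing O] [IsLocalRing O] [DRing.HasLBaseChange (residue O)]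

/-- The cohomology of a perfect object vanishes where that of its fibre does. -/
theorem isZero_of_fibre {L : Dual.D O} (hL : DRing.IsPerfect O L) (i : ℤ)
    (h : IsZero ((HF i).obj ((DRing.LBaseChange (residue O)).obj L))) : IsZero ((HF i).obj L) := by
  obtain ⟨P, -, hfree, ⟨e⟩⟩ := Minimal.exists_minimal L ((Perfect.perfect_iff L).1 hL).1
  haveI := (hfree i).1
  haveI := (hfree i).2.1
  haveI : Subsingleton (Dual.HD (ResidueField O) ((DRing.LBaseChange (residue O)).obj L) i) :=
    ModuleCat.subsingleton_of_isZero h
  have hd := (hfree i).2.2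
  replace hd := hd.trans Module.finrank_zero_of_subsingleton
  haveI : Nontrivial O := inferInstance
  haveI : Subsingleton (P.X i) := (Module.finrank_eq_zero_iff_of_free O _).1 hd
  exact ((ShortComplex.isZero_homology_of_isZero_X₂ _ (ModuleCat.isZero_of_subsingleton (P.X i))).of_iso
    ((HF i).mapIso e.symm ≪≫ hIso P i))

/-- The fibre of a perfect object is bounded below. -/
theorem exists_isZero_fibre {L : Dual.D O} (hL : DRing.IsPerfect O L) :
    ∃ a : ℤ, ∀ i < a, IsZero ((HF i).obj ((DRing.LBaseChange (residue O)).obj L)) := by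
  obtain ⟨E, a, b, hE, hf, ⟨e⟩⟩ := hL
  refine ⟨a, fun i hi => ?_⟩
  let e' := Perfect.baseChangeIsoOfRep (residue O)
    (TorAmp.isKFlat_of_projective (fun j hj => hE j (Or.inr hj)) fun j => (hf j).2) e
  exact (ShortComplex.isZero_homology_of_isZero_X₂ _ (Perfect.isZero_extCx (residue O) (hE i (Or.inl hi)))).of_iso
    ((HF i).mapIso e'.symm ≪≫ hIso _ i)

end Ring

/-- At a regular point the stalk of a bounded coherent object is perfect. -/
theorem isPerfect_stalkD {X : Scheme.{u}} [IsLocallyNoetherian X] (x : X)
    [IsRegularLocalRing (X.presheaf.stalk x)] (K : DCoh.D X) (hK : DCoh.IsCohD K) (a c : ℤ)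
    [K.IsGE a] [K.IsLE c] : DRing.IsPerfect (X.presheaf.stalk x) ((stalkD x).obj K) := by
  refine (Perfect.perfect_iff_of_regular (fun p => RegLoc.Homological.isRegularLocalRing_localization p.asIdeal) _).2
    ⟨⟨a, c, fun i hi => (subsingleton_HD_iff_isZero _ i).2 ?_⟩, finH_stalkD x K hK⟩
  refine IsZero.of_iso ?_ (DualCx.SchStalk.nonempty_homology_iso (DerSch.stalkFunctor X x) K i).some
  refine (DerSch.stalkFunctor X x).map_isZero ?_
  rcases hi with hi | hi
  · exact K.isZero_of_isGE a i hi
  · exact K.isZero_of_isLE c i hi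

end Groth.Agent.DRing.PointHom
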