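import Groth.Agent.DRing.PointHom.Adj
import Groth.Agent.InjMod.StalkInj
import Groth.Agent.InjMod.Coprod
import Groth.Agent.ModShf.GrothAb
import Mathlib.Algebra.Homology.Factorizations.CM5a
import Mathlib.Algebra.Homology.HomotopyCategory.KInjective
import Mathlib.Algebra.Homology.DerivedCategory.KInjective
import Mathlib.Algebra.Category.ModuleCat.Injective

/-!
# Morphisms from the point sheaf at a closed point lift from the stalk
-/

set_option autoImplicit false

universe u

open CategoryTheory CategoryTheory.Limits AlgebraicGeometry Opposite TopologicalSpace IsLocalRing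
open Groth.Agent.PullStalk.Sky Groth.Agent.KFlat.StalkTensor Groth.Agent.InjMod

attribute [local instance] HasDerivedCategory.standard

namespace Groth.Agent.DRing.PointHom

variable {X : Scheme.{u}} {x : X}

theorem germM_stalkMap {M N : X.Modules} (f : M ⟶ N) (U : X.Opens) {y : X} (hy : y ∈ U) (m : Γ(M, U)) :
    ((DerSch.stalkFunctor X y).map f).hom (germM M U y hy m) = germM N U y hy (f.app U m) :=
  DerSch.stalkFunctor_map_germ y f U hy m

/-- The stalk of a skyscraper vanishes away from its point. -/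
theorem stalk_sky_eq_zero (hx : IsClosed ({x} : Set X)) (N : ModuleCat.{u} (X.presheaf.stalk x))
    {y : X} (hy : y ≠ x) (t : ((skyF x).obj N).presheaf.stalk y) : t = 0 := by
  obtain ⟨W, hW, g, rfl⟩ := exists_germM_eq _ y t
  let W' : X.Opens := W ⊓ ⟨{x}ᶜ, hx.isOpen_compl⟩
  have hW' : y ∈ W' := ⟨hW, hy⟩
  refine (((skyF x).obj N).presheaf.germ_res_apply (homOfLE (inf_le_left : W' ≤ W)) y hW' g).symm.trans ?_
  refine Eq.trans (congrArg (((skyF x).obj N).presheaf.germ W' y hW')
    (show ((skyF x).obj N).presheaf.map (homOfLE (inf_le_left : W' ≤ W)).op g = 0 from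
      funext fun h => absurd rfl h.down.2)) ?_
  exact map_zero (((skyF x).obj N).presheaf.germ W' y hW').hom

/-- Morphisms out of a skyscraper at a closed point are determined at the point. -/
theorem eq_zero_of_stalk_self (hx : IsClosed ({x} : Set X)) {N : ModuleCat.{u} (X.presheaf.stalk x)}
    {M : X.Modules} (h : (skyF x).obj N ⟶ M) (h0 : (DerSch.stalkFunctor X x).map h = 0) : h = 0 := by
  refine eq_zero_of_stalk h fun y t => ?_
  by_cases hy : y = x
  · subst hy; rw [h0]; rfl
  · rw [stalk_sky_eq_zero hx N hy t]; exact map_zero _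

/-- An element of the stalk killed by the maximal ideal extends by zero to a global section. -/
theorem exists_section_at [IsLocallyNoetherian X] (hx : IsClosed ({x} : Set X)) {M : X.Modules}
    (t : M.presheaf.stalk x) (ht : ∀ r : X.presheaf.stalk x, ¬ IsUnit r → r • t = 0) :
    ∃ σ : Γ(M, (⊤ : X.Opens)), germM M ⊤ x trivial σ = t ∧
      ∀ y, y ≠ x → germM M ⊤ y trivial σ = 0 := by
  classical
  obtain ⟨W, hxW, m, rfl⟩ := exists_germM_eq M x t
  obtain ⟨V, hV, hxV, hVW⟩ := exists_isAffineOpen_mem_and_subset (X := X) (x := x) (U := W) hxW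
  have : IsNoetherianRing Γ(X, V) := IsLocallyNoetherian.component_noetherian ⟨V, hV⟩
  let p := hV.primeIdealOf ⟨x, hxV⟩
  obtain ⟨s, hs⟩ := (IsNoetherian.noetherian p.asIdeal)
  let m' : Γ(M, V) := M.presheaf.map (homOfLE (show V ≤ W from hVW)).op m
  have hm' : germM M V x hxV m' = germM M W x hxW m := M.presheaf.germ_res_apply _ x hxV m
  -- sections of `p` are exactly those with non-unit germ at `x`
  have hmem : ∀ a : Γ(X, V), a ∈ p.asIdeal ↔ ¬ IsUnit (X.presheaf.germ V x hxV a) := by
    intro a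
    rw [← X.mem_basicOpen _ _ hxV]
    have := hV.fromSpec_preimage_basicOpen a
    have hp : hV.fromSpec p = x := hV.fromSpec_primeIdealOf ⟨x, hxV⟩
    rw [← hp]
    show _ ↔ ¬ (p ∈ hV.fromSpec ⁻¹ᵁ X.basicOpen a)
    rw [this]
    exact not_not.symm
  -- a smaller neighbourhood where the generators kill the section
  have hkill : ∀ a ∈ s, ∃ (U : X.Opens) (hU : U ≤ V), x ∈ U ∧ M.presheaf.map (homOfLE hU).op (a • m') = 0 := by
    intro a ha
    have h0 : germM M V x hxV (a • m') = germM M V x hxV 0 := by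
      rw [germM_smul, hm']
      refine (ht _ ((hmem a).1 (hs ▸ Ideal.subset_span ha))).trans ?_
      exact (map_zero (M.presheaf.germ V x hxV).hom).symm
    obtain ⟨U, hU, i₁, i₂, e⟩ := M.presheaf.germ_eq x hxV hxV _ _ h0
    refine ⟨U, i₁.le, hU, e.trans ?_⟩
    exact map_zero (M.presheaf.map i₂.op).hom
  choose U hUV hxU hU0 using hkill
  let A : X.Opens := ⟨⋂ a ∈ s.attach, (U a.1 a.2 : Set X), isOpen_biInter_finset fun a _ => (U a.1 a.2).2⟩ ⊓ V
  have hxA : x ∈ A := ⟨Set.mem_iInter₂.2 fun a _ => hxU a.1 a.2, hxV⟩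
  have hAU : ∀ a (ha : a ∈ s), A ≤ U a ha := fun a ha y hy =>
    Set.mem_iInter₂.1 hy.1 ⟨a, ha⟩ (s.mem_attach _)
  have hzero : ∀ y (hy : y ∈ A), y ≠ x → germM M V y hy.2 m' = 0 := by
    intro y hy hne
    by_contra hne0
    have hall : ∀ a ∈ s, ¬ IsUnit (X.presheaf.germ V y hy.2 a) := by
      intro a ha hu
      refine hne0 (hu.smul_eq_zero.1 ?_)
      rw [← germM_smul]
      refine (M.presheaf.germ_res_apply (homOfLE (hUV a ha)) y (hAU a ha hy) (a • m')).symm.trans ?_
      rw [hU0 a ha]
      exact map_zero _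
    let q := hV.primeIdealOf ⟨y, hy.2⟩
    have hq : hV.fromSpec q = y := hV.fromSpec_primeIdealOf ⟨y, hy.2⟩
    have hpq : p.asIdeal ≤ q.asIdeal := by
      rw [← hs, Ideal.span_le]
      intro a ha
      have := hall a ha
      rw [← X.mem_basicOpen _ _ hy.2, ← hq] at this
      have h2 := hV.fromSpec_preimage_basicOpen a
      by_contra h3
      exact this (show q ∈ hV.fromSpec ⁻¹ᵁ X.basicOpen a by rw [h2]; exact h3)
    have hspec : p ⤳ q := (PrimeSpectrum.le_iff_specializes p q).1 hpq
    have := hspec.map hV.fromSpec.continuous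
    rw [hq, show hV.fromSpec p = x from hV.fromSpec_primeIdealOf ⟨x, hxV⟩] at this
    exact hne (this.mem_closed hx rfl)
  -- glue with zero away from `x`
  let B : ULift.{u} Bool → X.Opens := fun b => if b.down then A else ⟨{x}ᶜ, hx.isOpen_compl⟩
  let sf : ∀ b, Γ(M, B b) := fun b => match b with
    | ⟨true⟩ => M.presheaf.map (homOfLE (inf_le_right : A ≤ V)).op m'
    | ⟨false⟩ => 0
  have hcompat : TopCat.Presheaf.IsCompatible M.presheaf B sf := by
    have key : ∀ (W₀ : X.Opens) (h₁ : W₀ ≤ A), (∀ y ∈ W₀, y ≠ x) →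
        M.presheaf.map (homOfLE h₁).op (M.presheaf.map (homOfLE (inf_le_right : A ≤ V)).op m') = 0 := by
      intro W₀ h₁ hne
      refine TopCat.Presheaf.section_ext (F := ⟨M.presheaf, M.isSheaf⟩) W₀ _ _ fun y hy => ?_
      refine (M.presheaf.germ_res_apply (homOfLE h₁) y hy _).trans ?_
      refine (M.presheaf.germ_res_apply (homOfLE (inf_le_right : A ≤ V)) y (h₁ hy) m').trans ?_
      exact (hzero y (h₁ hy) (hne y hy)).trans (map_zero (M.presheaf.germ W₀ y hy).hom).symm
    rintro ⟨_ | _⟩ ⟨_ | _⟩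
    · rfl
    · refine (map_zero _).trans (key _ inf_le_right fun y hy => hy.1).symm
    · exact (key _ inf_le_left fun y hy => hy.2).trans (map_zero _).symm
    · rfl
  obtain ⟨σ, hσ, -⟩ := TopCat.Sheaf.existsUnique_gluing' ⟨M.presheaf, M.isSheaf⟩ B ⊤ (fun _ => homOfLE le_top)
    (fun y _ => Opens.mem_iSup.2 (if h : y = x then ⟨⟨true⟩, h ▸ hxA⟩ else ⟨⟨false⟩, h⟩)) sf hcompat
  refine ⟨σ, ?_, fun y hy => ?_⟩
  · refine ((M.presheaf.germ_res_apply (homOfLE (le_top : B ⟨true⟩ ≤ ⊤)) x hxA σ).symm.trans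
      (congrArg (M.presheaf.germ _ x hxA) (hσ ⟨true⟩))).trans ?_
    exact (M.presheaf.germ_res_apply (homOfLE (inf_le_right : A ≤ V)) x hxA m').trans hm'
  · refine ((M.presheaf.germ_res_apply (homOfLE (le_top : B ⟨false⟩ ≤ ⊤)) y (show y ∈ B ⟨false⟩ from hy) σ).symm.trans
      (congrArg (M.presheaf.germ _ y _) (hσ ⟨false⟩))).trans ?_
    exact map_zero _

theorem single_map_mkHom {C D : Type*} [Category C] [Preadditive C] [HasZeroObject C] [Category D]
    [Preadditive D] [HasZeroObject D] (F : C ⥤ D) [F.Additive] {A : C} {B : D} (b : B ⟶ F.obj A)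
    {K : CochainComplex C ℤ} (φ : A ⟶ K.X 0) (hd : ∀ j, (ComplexShape.up ℤ).Rel 0 j → φ ≫ K.d 0 j = 0)
    (c : (HomologicalComplex.single D (ComplexShape.up ℤ) 0).obj B ⟶
      (F.mapHomologicalComplex (ComplexShape.up ℤ)).obj K)
    (h : (HomologicalComplex.singleObjXSelf (ComplexShape.up ℤ) 0 B).inv ≫ c.f 0 = b ≫ F.map φ) :
    (HomologicalComplex.single D (ComplexShape.up ℤ) 0).map b ≫
      (HomologicalComplex.singleMapHomologicalComplex F (ComplexShape.up ℤ) 0).inv.app A ≫
        (F.mapHomologicalComplex (ComplexShape.up ℤ)).map (HomologicalComplex.mkHomFromSingle φ hd) = c := by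
  refine HomologicalComplex.from_single_hom_ext ?_
  rw [← cancel_epi (HomologicalComplex.singleObjXSelf (ComplexShape.up ℤ) 0 B).inv, h]
  simp only [HomologicalComplex.comp_f, HomologicalComplex.single_map_f_self,
    HomologicalComplex.singleMapHomologicalComplex_inv_app_self, Functor.mapHomologicalComplex_map_f,
    HomologicalComplex.mkHomFromSingle_f, Category.assoc, Iso.inv_hom_id_assoc]
  erw [Category.assoc, Iso.inv_hom_id_assoc, ← F.map_comp, Iso.inv_hom_id_assoc]
  rfl

/-- A linear map on the stalk lifts to a morphism out of the point sheaf. -/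
theorem exists_lift [IsLocallyNoetherian X] (hx : IsClosed ({x} : Set X)) {M : X.Modules}
    (v : kappa x ⟶ (DerSch.stalkFunctor X x).obj M) :
    ∃ φ : (skyF x).obj (kappa x) ⟶ M,
      (DerSch.stalkFunctor X x).map φ = (stalkSkyAdj x).counit.app (kappa x) ≫ v := by
  let F := DerSch.stalkFunctor X x
  let one : kappa x := (1 : ResidueField (X.presheaf.stalk x))
  let t : M.presheaf.stalk x := v.hom one
  have hone : ∀ r : X.presheaf.stalk x, ¬ IsUnit r → r • one = 0 := fun r hr => by
    show r • (1 : ResidueField (X.presheaf.stalk x)) = 0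
    rw [← Algebra.algebraMap_eq_smul_one]
    exact (IsLocalRing.residue_eq_zero_iff r).2 hr
  obtain ⟨σ, hσx, hσ⟩ := exists_section_at hx t (fun r hr => by
    refine (map_smul v.hom r one).symm.trans ?_
    exact (congrArg v.hom (hone r hr)).trans (map_zero v.hom))
  obtain ⟨g, hg⟩ := exists_gen_hom (⊤ : X.Opens) σ
  obtain ⟨q, hq⟩ := exists_gen_hom (⊤ : X.Opens) (M := (skyF x).obj (kappa x)) (fun _ => one)
  let ε := (stalkSkyAdj x).counit.app (kappa x)
  have hεinj : Function.Injective ε.hom :=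
    ((ConcreteCategory.isIso_iff_bijective ε).1 (isIso_counit_stalkSkyAdj x _)).1
  have hgen : ε.hom ((F.map q).hom (genGerm (U := ⊤) (x := x) trivial)) = one := by
    rw [stalk_gen_hom q (y := x) trivial, hq]
    exact ofSky_germ (𝟙 _) ⊤ trivial _
  have hqe : Epi q := Preadditive.epi_of_cancel_zero _ fun {P} h hh => by
    refine eq_zero_of_stalk_self hx h (ModuleCat.hom_ext (LinearMap.ext fun a => ?_))
    obtain ⟨r, hr⟩ : ∃ r : X.presheaf.stalk x, r • one = ε.hom a := by
      obtain ⟨r, hr⟩ := IsLocalRing.residue_surjective (show ResidueField (X.presheaf.stalk x) from ε.hom a)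
      exact ⟨r, (Algebra.algebraMap_eq_smul_one r).symm.trans hr⟩
    obtain rfl : r • (F.map q).hom (genGerm (U := ⊤) (x := x) trivial) = a :=
      hεinj ((map_smul ε.hom r _).trans (by rw [hgen, hr]))
    rw [map_smul]
    have := congrArg (fun k => (F.map k).hom (genGerm (U := ⊤) (x := x) trivial)) hh
    simp only [Functor.map_comp, Functor.map_zero] at this
    show r • _ = 0
    exact (congrArg (r • ·) this).trans (smul_zero r)
  have hk : kernel.ι q ≫ g = 0 := eq_zero_of_stalk _ fun y z => by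
    let G := DerSch.stalkFunctor X y
    obtain ⟨r, hr⟩ := (smul_genGerm_bijective (U := ⊤) (x := y) trivial).2 ((G.map (kernel.ι q)).hom z)
    rw [G.map_comp]
    show (G.map g).hom ((G.map (kernel.ι q)).hom z) = 0
    rw [← hr]
    refine (map_smul (G.map g).hom r _).trans ?_
    rw [stalk_gen_hom g (y := y) trivial, hg]
    by_cases hy : y = x
    · subst hy
      rw [hσx]
      have h0 : (F.map q).hom ((F.map (kernel.ι q)).hom z) = 0 := congrArg (fun f => ModuleCat.Hom.hom f z)
        ((F.map_comp _ _).symm.trans ((congrArg F.map (kernel.condition q)).trans (F.map_zero _ _)))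
      rw [← hr] at h0
      replace h0 := (map_smul (F.map q).hom r _).symm.trans h0
      have h1 := congrArg ε.hom h0
      rw [map_smul, hgen, map_zero] at h1
      have hru : ¬ IsUnit r := fun hu => one_ne_zero (α := ResidueField (X.presheaf.stalk y)) (hu.smul_eq_zero.1 h1)
      refine (map_smul v.hom r one).symm.trans ?_
      rw [hone r hru, map_zero]
    · rw [hσ y hy]
      exact smul_zero (A := M.presheaf.stalk y) r
  refine ⟨Abelian.epiDesc q g hk, ?_⟩
  rw [← cancel_epi (F.map q)]
  refine (F.map_comp _ _).symm.trans ?_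
  rw [Abelian.comp_epiDesc]
  refine ModuleCat.hom_ext (LinearMap.ext fun a => ?_)
  obtain ⟨r, rfl⟩ := (smul_genGerm_bijective (U := ⊤) (x := x) trivial).2 a
  refine (map_smul (F.map g).hom r _).trans (Eq.trans ?_ (map_smul (F.map q ≫ (stalkSkyAdj x).counit.app (kappa x) ≫ v).hom r _).symm)
  refine congrArg (r • ·) ?_
  rw [stalk_gen_hom g (y := x) trivial, hg, hσx]
  show _ = v.hom (ε.hom ((F.map q).hom (genGerm (U := ⊤) (x := x) trivial)))
  rw [hgen]

/-- Vanishing of morphisms from the point sheaf passes to the stalk. -/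
theorem noHom_stalk_of_injective [IsLocallyNoetherian X] (hx : IsClosed ({x} : Set X))
    (J : CochainComplex X.Modules ℤ) (n : ℤ) [J.IsStrictlyGE n] [∀ i, Injective (J.X i)]
    (h : ∀ φ : DCoh.inD X ((skyF x).obj (kappa x)) ⟶ DCoh.toD X J, φ = 0) :
    NoHom ((DerivedCategory.singleFunctor _ 0).obj (kappa x))
      (DRing.toD (((DerSch.stalkFunctor X x).mapHomologicalComplex (ComplexShape.up ℤ)).obj J)) := by
  intro χ
  let F := DerSch.stalkFunctor X x
  let Jx : CochainComplex (ModuleCat.{u} (X.presheaf.stalk x)) ℤ := (F.mapHomologicalComplex (ComplexShape.up ℤ)).obj J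
  haveI : ∀ i, Injective (Jx.X i) := fun i => by
    haveI : Module.Injective (X.presheaf.stalk x) ((J.X i).presheaf.stalk x) := InjMod.stalk_injective _ inferInstance x
    exact Module.injective_object_of_injective_module _ ((J.X i).presheaf.stalk x)
  haveI : Jx.IsStrictlyGE n := (CochainComplex.isStrictlyGE_iff _ _).2 fun i hi =>
    F.map_isZero (J.isZero_of_isStrictlyGE n i hi)
  haveI : Jx.IsKInjective := CochainComplex.isKInjective_of_injective Jx n
  let S₀ := (CochainComplex.singleFunctor (ModuleCat.{u} (X.presheaf.stalk x)) 0).obj (kappa x)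
  let s := (DerivedCategory.singleFunctorIsoCompQ _ 0).app (kappa x)
  obtain ⟨c, hc⟩ : ∃ c : S₀ ⟶ Jx, DerivedCategory.Q.map c = s.inv ≫ χ := by
    obtain ⟨g, hg⟩ := (CochainComplex.IsKInjective.Qh_map_bijective
      ((HomotopyCategory.quotient _ _).obj S₀) Jx).surjective
        ((DerivedCategory.quotientCompQhIso _).hom.app S₀ ≫ (s.inv ≫ χ) ≫
          (DerivedCategory.quotientCompQhIso _).inv.app Jx)
    obtain ⟨f, rfl⟩ := (HomotopyCategory.quotient _ _).map_surjective g
    refine ⟨f, ?_⟩
    have h := DerivedCategory.quotientCompQhIso_hom_naturality f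
    rw [hg] at h
    simp only [Category.assoc] at h
    erw [Iso.inv_hom_id_app, Category.comp_id] at h
    exact ((cancel_epi _).1 h).symm
  let v : kappa x ⟶ F.obj (J.X 0) := (HomologicalComplex.singleObjXSelf (ComplexShape.up ℤ) 0 (kappa x)).inv ≫ c.f 0
  obtain ⟨φ, hφ⟩ := exists_lift hx v
  have hd : ∀ j, (ComplexShape.up ℤ).Rel 0 j → φ ≫ J.d 0 j = 0 := fun j hj => by
    refine eq_zero_of_stalk_self hx _ ?_
    rw [F.map_comp, hφ, Category.assoc]
    have : v ≫ Jx.d 0 j = 0 := by
      simp only [v, Category.assoc]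
      show _ ≫ c.f 0 ≫ Jx.d 0 j = 0
      have h1 : c.f 0 ≫ Jx.d 0 j = 0 := (c.comm 0 j).trans (by
        rw [show S₀.d 0 j = 0 from HomologicalComplex.single_obj_d (ComplexShape.up ℤ) 0 (kappa x) 0 j]
        exact zero_comp)
      exact (congrArg (_ ≫ ·) h1).trans comp_zero
    exact (congrArg (_ ≫ ·) this).trans comp_zero
  let Φ : (CochainComplex.singleFunctor X.Modules 0).obj ((skyF x).obj (kappa x)) ⟶ J :=
    HomologicalComplex.mkHomFromSingle φ hd
  have hΦ : DerivedCategory.Q.map Φ = 0 := by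
    have := h (((DerivedCategory.singleFunctorIsoCompQ _ 0).app _).hom ≫ DerivedCategory.Q.map Φ)
    exact (cancel_epi _).1 (this.trans comp_zero.symm)
  have hΦx : DerivedCategory.Q.map ((F.mapHomologicalComplex (ComplexShape.up ℤ)).map Φ) = 0 := by
    have := F.mapDerivedCategoryFactors.hom.naturality Φ
    rw [Functor.comp_map, hΦ, Functor.map_zero, zero_comp] at this
    exact (cancel_epi (F.mapDerivedCategoryFactors.hom.app _)).1 (this.symm.trans comp_zero.symm)
  haveI := isIso_counit_stalkSkyAdj x (kappa x)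
  have hcx := single_map_mkHom F (inv ((stalkSkyAdj x).counit.app (kappa x))) φ hd c
    (by rw [hφ]; erw [IsIso.inv_hom_id_assoc]; rfl)
  have key : ∀ {A B C D : CochainComplex (ModuleCat.{u} (X.presheaf.stalk x)) ℤ} (a : A ⟶ B) (b : B ⟶ C)
      (z : C ⟶ D), DerivedCategory.Q.map z = 0 → DerivedCategory.Q.map (a ≫ b ≫ z) = 0 :=
    fun a b z hz => by rw [Functor.map_comp, Functor.map_comp, hz, comp_zero, comp_zero]
  have hc0 : DerivedCategory.Q.map c = 0 :=
    (congrArg DerivedCategory.Q.map hcx.symm).trans (key _ _ _ hΦx)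
  rw [← cancel_epi s.inv, comp_zero, ← hc]
  exact hc0

/-- On a bounded below object, vanishing of morphisms from the point sheaf passes to the stalk. -/
theorem noHom_from_point [IsLocallyNoetherian X] (hx : IsClosed ({x} : Set X)) (K : DCoh.D X) (a : ℤ)
    [K.IsGE a] (i : ℤ) (h : ∀ φ : DCoh.inD X (pointMod x) ⟶ (shiftFunctor (DCoh.D X) i).obj K, φ = 0) :
    NoHom ((DerivedCategory.singleFunctor _ 0).obj (kappa x)) (((stalkD x).obj K)⟦i⟧) := by
  haveI : (K⟦i⟧).IsGE (a - i) := DerivedCategory.TStructure.t.isGE_shift K a i (a - i) (by omega)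
  obtain ⟨P, _, ⟨e⟩⟩ := (K⟦i⟧).exists_iso_Q_obj_of_isGE (a - i)
  obtain ⟨J, f, hf, hJ, _⟩ := CochainComplex.Plus.modelCategoryQuillen.exists_quasiIso_injective P (a - i)
  let eJ : K⟦i⟧ ≅ DCoh.toD X J := e ≪≫ asIso (DerivedCategory.Q.map f)
  have h' : ∀ φ : DCoh.inD X ((skyF x).obj (kappa x)) ⟶ DCoh.toD X J, φ = 0 := fun φ => by
    have := h ((DerivedCategory.singleFunctor _ 0).map (nonempty_iso x).some.hom ≫ φ ≫ eJ.inv)
    rw [← cancel_mono eJ.inv, zero_comp]
    exact (cancel_epi ((DerivedCategory.singleFunctor _ 0).map (nonempty_iso x).some.hom)).1 (this.trans comp_zero.symm)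
  exact (noHom_stalk_of_injective hx J (a - i) h').of_iso
    (((DerSch.stalkFunctor X x).mapDerivedCategoryFactors.app J).symm ≪≫ (stalkD x).mapIso eJ.symm ≪≫
      ((stalkD x).commShiftIso i).app K)

end Groth.Agent.DRing.PointHom
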