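import Groth.Agent.DRing.PointHom.Global
import Groth.Agent.DRing.PointHom.Fibre
import Groth.Agent.KFlat.LTensorMod
import Groth.Agent.KFlat.RGamma
import Groth.Agent.KFlat.FlatRes
import Groth.Agent.KFlat.Kflat2

/-!
# Global sections of the derived tensor product with the point sheaf
-/

set_option autoImplicit false

universe u

open CategoryTheory CategoryTheory.Limits AlgebraicGeometry Opposite TopologicalSpace IsLocalRing
open Groth.Agent.PullStalk.Sky Groth.Agent.KFlat.StalkTensor Groth.Agent.InjMod
open scoped TensorProduct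

attribute [local instance] HasDerivedCategory.standard

namespace Groth.Agent.DRing.PointHom

variable {X : Scheme.{u}} {x : X}

/-- A module supported at a closed point is the skyscraper of its stalk. -/
theorem isIso_unit_of_support (hx : IsClosed ({x} : Set X)) (N : X.Modules)
    (h : ∀ y, y ≠ x → ∀ t : N.presheaf.stalk y, t = 0) : IsIso ((stalkSkyAdj x).unit.app N) := by
  let F := DerSch.stalkFunctor X x
  let η := (stalkSkyAdj x).unit.app N
  haveI : IsIso ((stalkSkyAdj x).counit.app (F.obj N)) := isIso_counit_stalkSkyAdj x _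
  haveI : IsIso (F.map η ≫ (stalkSkyAdj x).counit.app (F.obj N)) := by
    erw [(stalkSkyAdj x).left_triangle_components N]; infer_instance
  haveI hη : IsIso (F.map η) := IsIso.of_isIso_comp_right _ ((stalkSkyAdj x).counit.app (F.obj N))
  haveI : Mono η := mono_of_stalk_injective _ fun y => by
    by_cases hy : y = x
    · subst hy; exact ((ConcreteCategory.isIso_iff_bijective _).1 hη).1
    · exact fun a b _ => (h y hy a).trans (h y hy b).symm
  haveI : Epi η := Preadditive.epi_of_cancel_zero _ fun {P} k hk => eq_zero_of_stalk_self hx k (by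
    rw [← cancel_epi (F.map η), comp_zero, ← F.map_comp, hk, F.map_zero])
  exact isIso_of_mono_of_epi η

variable (x) in
/-- Tensoring with the point sheaf, stalk at the point. -/
noncomputable def stalkTensorPoint :
    DCoh.tensorRightMod (pointMod x) ⋙ DerSch.stalkFunctor X x ⋙
        forget₂ (ModuleCat.{u} (X.presheaf.stalk x)) AddCommGrpCat.{u} ≅
      DerSch.stalkFunctor X x ⋙ ModuleCat.extendScalars.{u, u, u} (residue (X.presheaf.stalk x)) ⋙
        forget₂ (ModuleCat.{u} (ResidueField (X.presheaf.stalk x))) AddCommGrpCat.{u} :=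
  have := isIso_counit_stalkSkyAdj x (kappa x)
  let ψ : ((pointMod x).presheaf.stalk x) ≃ₗ[X.presheaf.stalk x] ResidueField (X.presheaf.stalk x) :=
    ((DerSch.stalkFunctor X x).mapIso (nonempty_iso x).some ≪≫ asIso ((stalkSkyAdj x).counit.app (kappa x))).toLinearEquiv
  let e : ∀ N : X.Modules, (tensM N (pointMod x)).presheaf.stalk x ≃+
      ResidueField (X.presheaf.stalk x) ⊗[X.presheaf.stalk x] N.presheaf.stalk x := fun N =>
    ((stalkTensorEquiv N (pointMod x) x).trans ((TensorProduct.comm _ _ _).trans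
      (TensorProduct.congr ψ (LinearEquiv.refl _ _)))).toAddEquiv
  NatIso.ofComponents (fun N => AddEquiv.toAddCommGrpIso (e N)) fun {N N'} f => by
    ext t
    show e N' (((DerSch.stalkFunctor X x).map (((ModSite.tensorBi X.sheaf).map f).app (pointMod x))).hom t) =
      LinearMap.lTensor (ResidueField (X.presheaf.stalk x)) ((DerSch.stalkFunctor X x).map f).hom (e N t)
    refine (congrArg (fun w => TensorProduct.congr ψ (LinearEquiv.refl _ _) (TensorProduct.comm _ _ _ w))
      (stalkTensor_natural_left x f (pointMod x) t)).trans ?_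
    show TensorProduct.congr ψ (LinearEquiv.refl _ _) (TensorProduct.comm _ _ _
        (LinearMap.rTensor _ _ (stalkTensorEquiv N (pointMod x) x t))) =
      LinearMap.lTensor _ _ (TensorProduct.congr ψ (LinearEquiv.refl _ _) (TensorProduct.comm _ _ _
        (stalkTensorEquiv N (pointMod x) x t)))
    generalize (stalkTensorEquiv N (pointMod x) x) t = w
    induction w with
    | zero => simp only [map_zero]
    | add a b ha hb => simp only [map_add, ha, hb]
    | tmul a b => rfl

variable (x) in
/-- Global sections of a skyscraper are its module. -/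
noncomputable def gammaSkyIso :
    skyF x ⋙ DCoh.gammaAb X ≅ forget₂ (ModuleCat.{u} (X.presheaf.stalk x)) AddCommGrpCat.{u} :=
  let e : ∀ N : ModuleCat.{u} (X.presheaf.stalk x), (PLift (x ∈ (⊤ : X.Opens)) → N) ≃+ N := fun N =>
    { toFun := fun g => g ⟨trivial⟩
      invFun := fun n _ => n
      left_inv := fun g => funext fun h => by obtain rfl : h = ⟨trivial⟩ := rfl; rfl
      right_inv := fun _ => rfl
      map_add' := fun _ _ => rfl }
  NatIso.ofComponents (fun N => AddEquiv.toAddCommGrpIso (e N)) fun {N N'} f => by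
    ext g
    exact congrFun (skyMap_app x f ⊤ g) ⟨trivial⟩

theorem isZero_homology_map_iff {A B : Type*} [Category A] [Abelian A] [Category B] [Abelian B] (F : A ⥤ B)
    [F.Additive] [F.PreservesHomology] [F.Faithful] (K : CochainComplex A ℤ) (i : ℤ) :
    IsZero (((F.mapHomologicalComplex (ComplexShape.up ℤ)).obj K).homology i) ↔ IsZero (K.homology i) := by
  rw [← HomologicalComplex.exactAt_iff_isZero_homology, ← HomologicalComplex.exactAt_iff_isZero_homology,
    HomologicalComplex.exactAt_iff, HomologicalComplex.exactAt_iff]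
  exact ShortComplex.exact_map_iff_of_faithful (K.sc i) F

variable [IsLocallyNoetherian X] [IsRegularLocalRing (X.presheaf.stalk x)]
  [DCoh.HasLTensorMod (pointMod x)] [DCoh.HasRΓ X] [DRing.HasLBaseChange (residue (X.presheaf.stalk x))]

/-- Vanishing of `H^i RΓ(K ⊗^L O_x)` is vanishing of the fibre at `x`. -/
theorem isZero_fibre_of_RΓ (hx : IsClosed ({x} : Set X)) (K : DCoh.D X) (hK : DCoh.IsCohD K) (a c : ℤ)
    [K.IsGE a] [K.IsLE c] (i : ℤ)
    (h : IsZero ((DerivedCategory.homologyFunctor AddCommGrpCat.{u} i).obj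
      ((DCoh.RΓ X).obj ((DCoh.LTensorMod (pointMod x)).obj K)))) :
    IsZero ((DBasic.HF i).obj ((DRing.LBaseChange (residue (X.presheaf.stalk x))).obj ((stalkD x).obj K))) := by
  let O := X.presheaf.stalk x
  let F := DerSch.stalkFunctor X x
  obtain ⟨G, ⟨eG⟩⟩ : ∃ G : CochainComplex X.Modules ℤ, Nonempty (DerivedCategory.Q.obj G ≅ K) :=
    ⟨_, ⟨DerivedCategory.Q.objObjPreimageIso K⟩⟩
  obtain ⟨P, π, hflat, hb, hπ⟩ := KFlat.FlatRes.exists_flatRes G c fun j hj =>
    (K.isZero_of_isLE c j hj).of_iso (((DerivedCategory.homologyFunctorFactors X.Modules j).app G).symm ≪≫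
      (DerivedCategory.homologyFunctor X.Modules j).mapIso eG)
  let eP : DerivedCategory.Q.obj P ≅ K := asIso (DerivedCategory.Q.map π) ≪≫ eG
  let Px := (F.mapHomologicalComplex (ComplexShape.up ℤ)).obj P
  let ePx : DRing.toD Px ≅ (stalkD x).obj K := (F.mapDerivedCategoryFactors.app P).symm ≪≫ (stalkD x).mapIso eP
  have hPx : DRing.KFlat.IsKFlat Px := DRing.KFlat.isKFlat_of_boundedAbove_flat Px c
    (fun j hj => F.map_isZero (hb j hj)) fun j => hflat j x
  let T := (KFlat.LTensorMod.tmCx (pointMod x)).obj P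
  let W := (F.mapHomologicalComplex (ComplexShape.up ℤ)).obj T
  -- the stalk of the tensor product computes the fibre
  have hW : ∀ j, IsZero ((DBasic.HF j).obj ((DRing.LBaseChange (residue O)).obj ((stalkD x).obj K))) ↔
      IsZero (W.homology j) := fun j => by
    rw [((DBasic.HF j).mapIso (Perfect.baseChangeIsoOfRep (residue O) hPx ePx).symm ≪≫ DBasic.hIso _ j).isZero_iff,
      ← isZero_homology_map_iff (forget₂ (ModuleCat.{u} (ResidueField O)) AddCommGrpCat.{u}),
      ← isZero_homology_map_iff (forget₂ (ModuleCat.{u} O) AddCommGrpCat.{u}) W]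
    exact Iso.isZero_iff ((HomologicalComplex.homologyFunctor _ _ j).mapIso
      ((NatIso.mapHomologicalComplex (stalkTensorPoint x) (ComplexShape.up ℤ)).app P).symm)
  -- the tensor product is a complex of skyscrapers
  have hunit : ∀ j, IsIso ((stalkSkyAdj x).unit.app (T.X j)) := fun j => by
    refine isIso_unit_of_support hx _ fun y hy t => ?_
    haveI : Subsingleton ((pointMod x).presheaf.stalk y) := subsingleton_of_forall_eq 0 fun s => by
      have hinj := ((ConcreteCategory.isIso_iff_bijective ((DerSch.stalkFunctor X y).map (nonempty_iso x).some.hom)).1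
        inferInstance).1
      exact hinj ((stalk_sky_eq_zero hx _ hy _).trans (map_zero _).symm)
    refine (stalkTensorEquiv (P.X j) (pointMod x) y).injective ?_
    exact Subsingleton.elim _ _
  let η : T ≅ ((skyF x).mapHomologicalComplex (ComplexShape.up ℤ)).obj W :=
    HomologicalComplex.Hom.isoOfComponents (fun j => @asIso _ _ _ _ ((stalkSkyAdj x).unit.app (T.X j)) (hunit j))
      fun j k _ => ((stalkSkyAdj x).unit.naturality (T.d j k)).symm
  -- a bounded below injective representative of the stalk
  obtain ⟨a', ha'⟩ := exists_isZero_fibre (isPerfect_stalkD x K hK a c)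
  haveI : (DRing.toD W).IsGE a' := (DerivedCategory.isGE_iff _ _).2 fun j hj =>
    ((hW j).1 (ha' j hj)).of_iso (DBasic.hIso W j)
  obtain ⟨W', _, ⟨eW'⟩⟩ := (DRing.toD W).exists_iso_Q_obj_of_isGE a'
  obtain ⟨J, f, hf, hJ, _⟩ := CochainComplex.Plus.modelCategoryQuillen.exists_quasiIso_injective W' a'
  let eJ : DRing.toD W ≅ DRing.toD J := eW' ≪≫ asIso (DerivedCategory.Q.map f)
  let skyJ : CochainComplex X.Modules ℤ := ((skyF x).mapHomologicalComplex (ComplexShape.up ℤ)).obj J
  haveI : ∀ j, Injective (skyJ.X j) := fun j => (stalkSkyAdj x).map_injective (J.X j) (hJ j)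
  haveI : skyJ.IsStrictlyGE a' := (CochainComplex.isStrictlyGE_iff _ _).2 fun j hj =>
    (skyF x).map_isZero (J.isZero_of_isStrictlyGE a' j hj)
  haveI : skyJ.IsKInjective := CochainComplex.isKInjective_of_injective skyJ a'
  let eT : (DCoh.LTensorMod (pointMod x)).obj K ≅ DerivedCategory.Q.obj skyJ :=
    (DCoh.LTensorMod (pointMod x)).mapIso eP.symm ≪≫
      KFlat.LTensorMod.ltensorModIso (pointMod x) (KFlat.isKFlat_of_flat_boundedAbove P c hb hflat) ≪≫
      DerivedCategory.Q.mapIso η ≪≫ ((skyF x).mapDerivedCategoryFactors.app W).symm ≪≫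
      (skyF x).mapDerivedCategory.mapIso eJ ≪≫ (skyF x).mapDerivedCategoryFactors.app J
  haveI := KFlat.RGamma.isIso_toRΓ X skyJ
  let eR : (DCoh.RΓ X).obj ((DCoh.LTensorMod (pointMod x)).obj K) ≅
      DerivedCategory.Q.obj ((KFlat.RGamma.gammaCx X).obj skyJ) :=
    (DCoh.RΓ X).mapIso eT ≪≫ (asIso ((KFlat.RGamma.toRΓ X).app skyJ)).symm
  have h1 : IsZero (((KFlat.RGamma.gammaCx X).obj skyJ).homology i) :=
    h.of_iso (((DerivedCategory.homologyFunctorFactors AddCommGrpCat.{u} i).app _).symm ≪≫
      (DerivedCategory.homologyFunctor AddCommGrpCat.{u} i).mapIso eR.symm)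
  have h2 : IsZero (J.homology i) := by
    rw [← isZero_homology_map_iff (forget₂ (ModuleCat.{u} O) AddCommGrpCat.{u}) J]
    exact h1.of_iso ((HomologicalComplex.homologyFunctor _ _ i).mapIso
      ((NatIso.mapHomologicalComplex (gammaSkyIso x) (ComplexShape.up ℤ)).app J).symm)
  exact (hW i).2 (h2.of_iso ((DBasic.hIso W i).symm ≪≫ (DBasic.HF i).mapIso eJ ≪≫ DBasic.hIso J i))

end Groth.Agent.DRing.PointHom
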