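import Groth.Agent.InjMod.SkyCofree
import Groth.Agent.KFlat.StalkFlat
import Mathlib.AlgebraicGeometry.ResidueField
import Mathlib.AlgebraicGeometry.Morphisms.Preimmersion
import Groth.Prelude.Def_Coh

/-!
# The direct image of the residue field is a skyscraper module
-/

set_option autoImplicit false

universe u

open CategoryTheory CategoryTheory.Limits AlgebraicGeometry Opposite TopologicalSpace
open Groth.Agent.PullStalk.Sky Groth.Agent.KFlat.StalkTensor Groth.Agent.InjMod

namespace Groth.Agent.DRing.PointHom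

variable {X : Scheme.{u}} (x : X)

/-- `κ(x)` as a module over the local ring. -/
noncomputable abbrev kappa : ModuleCat.{u} (X.presheaf.stalk x) :=
  ModuleCat.of _ (IsLocalRing.ResidueField (X.presheaf.stalk x))

/-- The direct image of the structure sheaf of the point. -/
noncomputable abbrev pointMod : X.Modules :=
  (Coh.push (X.fromSpecResidueField x)).obj (Coh.structureModule _)

theorem preimage_eq_top {U : X.Opens} (hx : x ∈ U) : X.fromSpecResidueField x ⁻¹ᵁ U = ⊤ :=
  eq_top_iff.2 fun y _ => by
    show X.fromSpecResidueField x y ∈ U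
    rwa [Scheme.fromSpecResidueField_apply]

/-- The point of the spectrum of the residue field. -/
noncomputable abbrev pt : Spec (X.residueField x) := IsLocalRing.closedPoint (X.residueField x)

theorem section_eq {V : (Spec (X.residueField x)).Opens} (hV : pt x ∈ V)
    {a b : Γ(Spec (X.residueField x), V)}
    (h : (Spec (X.residueField x)).presheaf.germ V _ hV a = (Spec (X.residueField x)).presheaf.germ V _ hV b) :
    a = b := by
  refine TopCat.Presheaf.section_ext (Spec (X.residueField x)).sheaf V a b fun y hy => ?_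
  obtain rfl : y = pt x := @Subsingleton.elim (PrimeSpectrum (X.residueField x)) _ _ _
  exact h

theorem stalk_field {r : (Spec (X.residueField x)).presheaf.stalk (pt x)} (hr : ¬ IsUnit r) : r = 0 := by
  have hK : IsField ((Spec (X.residueField x)).presheaf.stalk (pt x)) := by
    have : (PrimeSpectrum.asIdeal (R := X.residueField x) (pt x)).IsPrime :=
      PrimeSpectrum.isPrime (R := X.residueField x) (pt x)
    let k : Algebra (X.residueField x) ((Spec (X.residueField x)).presheaf.stalk (pt x)) :=
      StructureSheaf.stalkAlgebra (X.residueField x) (pt x)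
    have : IsLocalization.AtPrime ((Spec (X.residueField x)).presheaf.stalk (pt x))
        (PrimeSpectrum.asIdeal (R := X.residueField x) (pt x)) :=
      StructureSheaf.IsLocalization.to_stalk (X.residueField x) (pt x)
    let e := IsLocalization.atUnits (X.residueField x)
      (PrimeSpectrum.asIdeal (R := X.residueField x) (pt x)).primeCompl
      (S := (Spec (X.residueField x)).presheaf.stalk (pt x)) (fun a ha ↦ IsUnit.mk0 a fun h0 ↦ ha
        (h0.symm ▸ (PrimeSpectrum.asIdeal (R := X.residueField x) (pt x)).zero_mem))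
    exact e.symm.toMulEquiv.isField (Field.toIsField (X.residueField x))
  by_contra h
  obtain ⟨s, hs⟩ := hK.mul_inv_cancel h
  exact hr (.of_mul_eq_one _ hs)

theorem res_bijective {U V : X.Opens} (h : V ≤ U) (hx : x ∈ V) :
    Function.Bijective ((pointMod x).presheaf.map (homOfLE h).op) := by
  let ι := X.fromSpecResidueField x
  have he : ι ⁻¹ᵁ V = ι ⁻¹ᵁ U := by rw [preimage_eq_top x hx, preimage_eq_top x (h hx)]
  show Function.Bijective ((Coh.structureModule (Spec (X.residueField x))).presheaf.map (homOfLE (ι.preimage_mono h)).op)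
  have : IsIso (homOfLE (ι.preimage_mono h)) := ⟨eqToHom he.symm, rfl, rfl⟩
  exact (ConcreteCategory.isIso_iff_bijective _).1 inferInstance

theorem germ_bijective (U : X.Opens) (hx : x ∈ U) : Function.Bijective (germM (pointMod x) U x hx) := by
  refine ⟨fun a b e => ?_, fun t => ?_⟩
  · obtain ⟨W, hW, i₁, i₂, e'⟩ := (pointMod x).presheaf.germ_eq x hx hx _ _ e
    exact (res_bijective x i₁.le hW).1 e'
  · obtain ⟨W, hW, s, rfl⟩ := exists_germM_eq (pointMod x) x t
    have hW' : x ∈ W ⊓ U := ⟨hW, hx⟩
    obtain ⟨a, ha⟩ := (res_bijective x (inf_le_right : W ⊓ U ≤ U) hW').2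
      ((pointMod x).presheaf.map (homOfLE (inf_le_left : W ⊓ U ≤ W)).op s)
    refine ⟨a, ?_⟩
    refine ((pointMod x).presheaf.germ_res_apply (homOfLE (inf_le_right : W ⊓ U ≤ U)) x hW' a).symm.trans ?_
    exact (congrArg ((pointMod x).presheaf.germ (W ⊓ U) x hW') ha).trans
      ((pointMod x).presheaf.germ_res_apply _ x hW' s)

theorem isIso_skyUnit : IsIso (skyUnit (pointMod x) x) := by
  refine isIso_of_basis _ Set.univ ?_ fun U _ =>
    (skyUnit_app_bijective_iff (pointMod x) x U).2 ⟨germ_bijective x U, fun hx => ?_⟩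
  · exact Opens.isBasis_iff_nbhd.2 fun {U y} hy => ⟨U, trivial, hy, le_rfl⟩
  · refine ⟨fun a b => TopCat.Presheaf.section_ext (Spec (X.residueField x)).sheaf _ a b fun y hy => ?_⟩
    exact absurd (show X.fromSpecResidueField x y ∈ U from hy) (by rwa [Scheme.fromSpecResidueField_apply])

/-- The image of `1` in the stalk. -/
noncomputable def gen : (pointMod x).presheaf.stalk x :=
  germM (pointMod x) ⊤ x trivial (show Γ(Spec (X.residueField x), X.fromSpecResidueField x ⁻¹ᵁ ⊤) from 1)

theorem stalkMap_germ (U : X.Opens) (hx : x ∈ U) (a : Γ(X, U)) :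
    (X.fromSpecResidueField x).stalkMap (pt x) (X.presheaf.germ U _
      (show X.fromSpecResidueField x (pt x) ∈ U by rwa [Scheme.fromSpecResidueField_apply]) a) =
    (Spec (X.residueField x)).presheaf.germ (X.fromSpecResidueField x ⁻¹ᵁ U) (pt x)
      (show X.fromSpecResidueField x (pt x) ∈ U by rwa [Scheme.fromSpecResidueField_apply])
      ((X.fromSpecResidueField x).app U a) :=
  Scheme.Hom.germ_stalkMap_apply _ _ _ _ _

theorem smul_gen (U : X.Opens) (hx : x ∈ U) (a : Γ(X, U)) :
    X.presheaf.germ U x hx a • gen x =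
      germM (pointMod x) U x hx (show Γ(Spec (X.residueField x), X.fromSpecResidueField x ⁻¹ᵁ U) from
        (X.fromSpecResidueField x).app U a) := by
  have h1 : gen x = germM (pointMod x) U x hx
      (show Γ(Spec (X.residueField x), X.fromSpecResidueField x ⁻¹ᵁ U) from 1) := by
    refine ((pointMod x).presheaf.germ_res_apply (homOfLE (le_top : U ≤ ⊤)) x hx _).symm.trans ?_
    refine congrArg ((pointMod x).presheaf.germ U x hx) ?_
    exact map_one ((Spec (X.residueField x)).presheaf.map
      (homOfLE ((X.fromSpecResidueField x).preimage_mono (le_top : U ≤ ⊤))).op).hom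
  rw [h1, ← germM_smul]
  exact congrArg ((pointMod x).presheaf.germ U x hx) (mul_one ((X.fromSpecResidueField x).app U a))

theorem span_gen (t : (pointMod x).presheaf.stalk x) : ∃ r : X.presheaf.stalk x, r • gen x = t := by
  obtain ⟨U, hx, s, rfl⟩ := exists_germM_eq (pointMod x) x t
  let ι := X.fromSpecResidueField x
  have hU : ι (pt x) ∈ U := by rwa [Scheme.fromSpecResidueField_apply]
  obtain ⟨r, hr⟩ := ι.stalkMap_surjective (pt x)
    ((Spec (X.residueField x)).presheaf.germ (ι ⁻¹ᵁ U) (pt x) hU (show Γ(Spec (X.residueField x), ι ⁻¹ᵁ U) from s))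
  obtain ⟨V, hV, a, rfl⟩ := X.presheaf.exists_germ_eq (x := ι (pt x)) r
  have hV' : x ∈ V := by simpa [ι, Scheme.fromSpecResidueField_apply] using hV
  refine ⟨X.presheaf.germ V x hV' a, ?_⟩
  rw [smul_gen]
  refine ((pointMod x).presheaf.germ_res_apply (homOfLE (inf_le_right : U ⊓ V ≤ V)) x ⟨hx, hV'⟩ _).symm.trans ?_
  refine Eq.trans ?_ ((pointMod x).presheaf.germ_res_apply (homOfLE (inf_le_left : U ⊓ V ≤ U)) x ⟨hx, hV'⟩ s)
  refine congrArg ((pointMod x).presheaf.germ (U ⊓ V) x ⟨hx, hV'⟩) (section_eq x (show ι (pt x) ∈ U ⊓ V from ⟨hU, hV⟩) ?_)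
  refine ((Spec (X.residueField x)).presheaf.germ_res_apply (homOfLE (ι.preimage_mono (inf_le_right : U ⊓ V ≤ V))) (pt x) ⟨hU, hV⟩ _).trans ?_
  refine Eq.trans ?_ ((Spec (X.residueField x)).presheaf.germ_res_apply (homOfLE (ι.preimage_mono (inf_le_left : U ⊓ V ≤ U))) (pt x) ⟨hU, hV⟩ _).symm
  exact (stalkMap_germ x V hV' a).symm.trans hr

theorem kill_gen {r : X.presheaf.stalk x} (hr : ¬ IsUnit r) : r • gen x = 0 := by
  obtain ⟨U, hx, a, rfl⟩ := X.presheaf.exists_germ_eq (x := x) r
  let ι := X.fromSpecResidueField x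
  have hU : ι (pt x) ∈ U := by rwa [Scheme.fromSpecResidueField_apply]
  rw [smul_gen]
  have h : (show Γ(Spec (X.residueField x), ι ⁻¹ᵁ U) from ι.app U a) = 0 := by
    refine section_eq x hU ?_
    rw [map_zero]
    refine stalk_field x fun hu => hr ?_
    rw [← stalkMap_germ x U hx a] at hu
    have := isUnit_of_map_unit (ι.stalkMap (pt x)).hom _ hu
    have e : ∀ y (hy : y ∈ U), y = x → IsUnit (X.presheaf.germ U y hy a) → IsUnit (X.presheaf.germ U x hx a) := by
      rintro y hy rfl h; exact h
    exact e _ hU (Scheme.fromSpecResidueField_apply _ _) this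
  exact (congrArg ((pointMod x).presheaf.germ U x hx) h).trans (map_zero ((pointMod x).presheaf.germ U x hx).hom)

theorem gen_ne_zero : gen x ≠ 0 := by
  intro h
  have := (germ_bijective x ⊤ trivial).1 (h.trans (map_zero ((pointMod x).presheaf.germ ⊤ x trivial).hom).symm)
  have h2 := congrArg ((Spec (X.residueField x)).presheaf.germ _ (pt x)
    (show X.fromSpecResidueField x (pt x) ∈ (⊤ : X.Opens) from trivial))
    (show (1 : Γ(Spec (X.residueField x), X.fromSpecResidueField x ⁻¹ᵁ ⊤)) = 0 from this)
  rw [map_one, map_zero] at h2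
  exact one_ne_zero h2

/-- The direct image of the point is the skyscraper at `x` of the residue field. -/
theorem nonempty_iso : Nonempty (pointMod x ≅ (skyF x).obj (kappa x)) := by
  let φ := LinearMap.toSpanSingleton (X.presheaf.stalk x) ((pointMod x).presheaf.stalk x) (gen x)
  have hk : LinearMap.ker φ = IsLocalRing.maximalIdeal (X.presheaf.stalk x) := by
    ext r
    refine ⟨fun h => ?_, fun h => kill_gen x h⟩
    rintro (hu : IsUnit r)
    exact gen_ne_zero x (hu.smul_eq_zero.1 h)
  let e : kappa x ≅ ModuleCat.of (X.presheaf.stalk x) ((pointMod x).presheaf.stalk x) :=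
    (Submodule.quotEquivOfEq (IsLocalRing.maximalIdeal (X.presheaf.stalk x)) _ hk.symm ≪≫ₗ
      φ.quotKerEquivOfSurjective (span_gen x)).toModuleIso
  have := isIso_skyUnit x
  exact ⟨asIso (skyUnit (pointMod x) x) ≪≫ (skyF x).mapIso
    (X := ModuleCat.of (X.presheaf.stalk x) ((pointMod x).presheaf.stalk x)) e.symm⟩

end Groth.Agent.DRing.PointHom
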